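import Cfsg.Agent.Lib.Joined.Tools
import Cfsg.Agent.Lib.Components.Fitting
import Cfsg.Agent.Lib.PCore.Basic

/-!
# Groups without elements of three joined primes: basic consequences

* `NoTriple σ G`: no three pairwise commuting elements of three distinct prime orders from `σ`;
* `Cfg σ r V L`: a solvable `L` acting faithfully on the `r`-group `V` inside such a group;
* `Cfg.fpf_of_sq`, `Cfg.centralizes`, `Cfg.exists_fix`, `Cfg.not_two_fpf`, `Cfg.no_central`;
* `coreIn p H`, `no_line`.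
-/

set_option autoImplicit false

namespace Cfsg.Agent.Joined

open Subgroup

variable {G : Type*} [Group G]

/-- No three pairwise commuting elements of three distinct prime orders from `σ`. -/
def NoTriple (σ : Finset ℕ) (G : Type*) [Group G] : Prop :=
  ∀ p ∈ σ, ∀ q ∈ σ, ∀ r ∈ σ, p ≠ q → q ≠ r → p ≠ r → ∀ x y z : G,
    orderOf x = p → orderOf y = q → orderOf z = r → Commute x y → Commute y z → Commute x z → False

/-- The solvable group `L` acts faithfully on the `r`-group `V`. -/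
structure Cfg (σ : Finset ℕ) (r : ℕ) (V L : Subgroup G) : Prop where
  prime : ∀ p ∈ σ, p.Prime
  no3 : NoTriple σ G
  mem : r ∈ σ
  hV : IsPGroup r V
  hLV : L ≤ normalizer (V : Set G)
  faithful : L ⊓ centralizer (V : Set G) = ⊥
  sol : Group.IsSolvable L

theorem eq_bot_of_pair [Finite G] {σ : Finset ℕ} (no3 : NoTriple σ G) {p q r : ℕ} (hp : p ∈ σ)
    (hq : q ∈ σ) (hr : r ∈ σ) (hpq : p ≠ q) (hpr : p ≠ r) (hqr : q ≠ r) (hr' : r.Prime)
    {V : Subgroup G} (hV : IsPGroup r V) {x y : G} (hx : orderOf x = p) (hy : orderOf y = q)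
    (hxy : x * y = y * x) : V ⊓ centralizer {x} ⊓ centralizer {y} = ⊥ := by
  by_contra hne
  obtain ⟨z, hz, hzo⟩ := exists_order_of_ne_bot hr' hV (inf_le_left.trans inf_le_left) hne
  exact no3 p hp q hq r hr hpq hqr hpr x y z hx hy hzo hxy
    (mem_centralizer_singleton_iff.1 hz.2).symm (mem_centralizer_singleton_iff.1 hz.1.2).symm

variable [Finite G] {σ : Finset ℕ} {r : ℕ} {V L : Subgroup G}

theorem Cfg.eq_bot_pair (c : Cfg σ r V L) {p q : ℕ} (hp : p ∈ σ) (hq : q ∈ σ) (hpq : p ≠ q)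
    (hpr : p ≠ r) (hqr : q ≠ r) {x y : G} (hx : orderOf x = p) (hy : orderOf y = q)
    (hxy : x * y = y * x) : V ⊓ centralizer {x} ⊓ centralizer {y} = ⊥ :=
  eq_bot_of_pair c.no3 hp hq c.mem hpq hpr hqr (c.prime r c.mem) c.hV hx hy hxy

omit [Finite G] in
theorem Cfg.not_le_centralizer (c : Cfg σ r V L) {x : G} (hx : x ∈ L) (hx1 : x ≠ 1) :
    ¬ V ≤ centralizer {x} := fun h => hx1 (mem_bot.1 (c.faithful ▸
      (⟨hx, mem_centralizer_iff.2 fun _ hv => mem_centralizer_singleton_iff.1 (h hv)⟩ :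
        x ∈ L ⊓ centralizer (V : Set G))))

theorem Cfg.ne_bot_of_mem (c : Cfg σ r V L) {x : G} (hx : x ∈ L) (hx1 : x ≠ 1) : V ≠ ⊥ :=
  fun h => c.not_le_centralizer hx hx1 (h ▸ bot_le)

/-- Some element of a square of `L` has fixed points on `V`. -/
theorem Cfg.exists_fix (c : Cfg σ r V L) {p : ℕ} (hp : p ∈ σ) (hpr : p ≠ r) {E : Subgroup G}
    (hE : IsSq p E) (hEL : E ≤ L) : ∃ e ∈ E, e ≠ 1 ∧ V ⊓ centralizer {e} ≠ ⊥ := by
  obtain ⟨e, he, he1⟩ := hE.exists_not_mem (c.prime p hp) (one_mem E)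
  exact Joined.exists_fix (c.prime r c.mem) (c.prime p hp) hpr.symm hE c.hV (hEL.trans c.hLV)
    (c.ne_bot_of_mem (hEL he) fun h => he1 (by rw [h]; exact one_mem _))

/-- An element centralising a square of another prime has no fixed points on `V`. -/
theorem Cfg.fpf_of_sq (c : Cfg σ r V L) {p q : ℕ} (hp : p ∈ σ) (hq : q ∈ σ) (hpq : p ≠ q)
    (hpr : p ≠ r) (hqr : q ≠ r) {x : G} (hx : orderOf x = p) {E : Subgroup G} (hE : IsSq q E)
    (hEL : E ≤ L) (hEx : E ≤ centralizer {x}) : V ⊓ centralizer {x} = ⊥ := by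
  by_contra hne
  obtain ⟨e, he, he1, h⟩ := Joined.exists_fix (c.prime r c.mem) (c.prime q hq) hqr.symm hE
    (c.hV.to_le inf_le_left) (le_normalizer_inf_centralizer (hEL.trans c.hLV) hEx) hne
  exact h (c.eq_bot_pair hp hq hpq hpr hqr hx (hE.orderOf_eq (c.prime q hq) he he1)
    (mem_centralizer_singleton_iff.1 (hEx he)).symm)

/-- An element without fixed points on `V` centralises the abelian coprime subgroups it
normalises. -/
theorem Cfg.centralizes (c : Cfg σ r V L) {p q : ℕ} (hp : p ∈ σ) (hq : q ∈ σ) (hpq : p ≠ q)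
    (hpr : p ≠ r) (hqr : q ≠ r) {g : G} (hg : orderOf g = q) (hgL : g ∈ L) {B : Subgroup G}
    (hB : IsElementaryAbelian p B) (hBL : B ≤ L) (hgB : g ∈ normalizer (B : Set G))
    (hVg : V ⊓ centralizer {g} = ⊥) : B ≤ centralizer {g} := by
  have := hB.1
  refine centralizes_abelian (c.prime p hp) (c.prime q hq) (c.prime r c.mem) hpq.symm hqr hpr
    (PGroup.isPGroup_of_elementaryAbelian hB) c.hV hg (hBL.trans c.hLV) (c.hLV hgL) hgB hVg
    (le_bot_iff.1 (c.faithful ▸ inf_le_inf_right _ hBL))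

omit [Finite G] in
theorem hasSq_conj {p : ℕ} {H L : Subgroup G} (h : HasSq p L) {x : G}
    (hx : ∀ k ∈ L, x * k * x⁻¹ ∈ H) : HasSq p H := by
  obtain ⟨E, hEL, hE, hc⟩ := h
  refine ⟨E.map (MulAut.conj x).toMonoidHom, ?_, PGroup.isElementaryAbelian_map hE _, ?_⟩
  · rintro _ ⟨k, hk, rfl⟩
    exact hx k (hEL hk)
  · rw [card_map_of_injective (MulAut.conj x).injective, hc]

omit [Finite G] in
theorem primes_of_sq {p : ℕ} (hp : p.Prime) {E : Subgroup G} (hE : IsSq p E) {d : ℕ}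
    (hd : d.Prime) (h : d ∣ Nat.card E) : d = p :=
  (Nat.prime_dvd_prime_iff_eq hd hp).1 (hd.dvd_of_dvd_pow (hE.card ▸ h))

/-- A Hall `{p, q}`-subgroup contains squares for both primes. -/
theorem exists_hall_sq {p q : ℕ} (hp : p.Prime) (hq : q.Prime) (hpq : p ≠ q) {L : Subgroup G}
    [Group.IsSolvable L] (hsp : HasSq p L) (hsq : HasSq q L) :
    ∃ H ≤ L, (∀ d : ℕ, d.Prime → d ∣ Nat.card H → d = p ∨ d = q) ∧ HasSq p H ∧ HasSq q H := by
  obtain ⟨H, hHL, hH, hK⟩ := exists_hall_two hp hq hpq L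
  refine ⟨H, hHL, hH, ?_, ?_⟩
  · obtain ⟨E, hEL, hE⟩ := hsp.exists_isSq
    obtain ⟨x, -, hx⟩ := hK E hEL fun d hd h => Or.inl (primes_of_sq hp hE hd h)
    exact hasSq_conj (hE.hasSq le_rfl) hx
  · obtain ⟨E, hEL, hE⟩ := hsq.exists_isSq
    obtain ⟨x, -, hx⟩ := hK E hEL fun d hd h => Or.inr (primes_of_sq hq hE hd h)
    exact hasSq_conj (hE.hasSq le_rfl) hx

theorem eq_or_eq_of_isPGroup {d p q : ℕ} (hd : d.Prime) {B H : Subgroup G}
    (hB : IsPGroup d B) (hBH : B ≤ H) (hne : B ≠ ⊥)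
    (hH : ∀ e : ℕ, e.Prime → e ∣ Nat.card H → e = p ∨ e = q) : d = p ∨ d = q := by
  obtain ⟨z, hz, hzo⟩ := exists_order_of_ne_bot hd hB le_rfl hne
  exact hH d hd (hzo ▸ H.orderOf_dvd_natCard (hBH hz))

/-- No element with centralising squares for two further primes. -/
theorem Cfg.no_central (c : Cfg σ r V L) {p q t : ℕ} (hp : p ∈ σ) (hq : q ∈ σ) (ht : t ∈ σ)
    (hpq : p ≠ q) (hpt : p ≠ t) (hqt : q ≠ t) (hsp : HasSq p L) (hsq : HasSq q L) {u : G}
    (hu : orderOf u = t) (hLu : L ≤ centralizer {u}) : False := by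
  have hp' := c.prime p hp
  have hq' := c.prime q hq
  have := c.sol
  obtain ⟨H, hHL, hH, hp2, hq2⟩ := exists_hall_sq hp' hq' hpq hsp hsq
  have : Group.IsSolvable H := Coprime.isSolvable_of_le hHL c.sol
  have hne : H ≠ ⊥ := by
    rintro rfl
    obtain ⟨E, hE, hEs⟩ := hp2.exists_isSq
    obtain ⟨e, he, he1⟩ := hEs.exists_not_mem hp' (one_mem E)
    exact he1 (by rw [mem_bot.1 (hE he)]; exact one_mem _)
  obtain ⟨d, B, hd, hBH, hBne, hHB, hBel⟩ := exists_elementary_of_solvable hne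
  have hBp := PGroup.isPGroup_of_elementaryAbelian hBel
  have key : ∀ p₁ q₁ : ℕ, p₁ ∈ σ → q₁ ∈ σ → p₁ ≠ q₁ → p₁ ≠ t → q₁ ≠ t → d = p₁ → HasSq q₁ H →
      False := by
    intro p₁ q₁ hp₁ hq₁ h12 h1t h2t hd1 hs
    obtain ⟨E, hEH, hE⟩ := hs.exists_isSq
    obtain ⟨e, he, he1, hfix⟩ := Joined.exists_fix hd (c.prime q₁ hq₁) (hd1 ▸ h12) hE hBp
      (hEH.trans hHB) hBne
    obtain ⟨z, hz, hzo⟩ := exists_order_of_ne_bot hd hBp inf_le_left hfix
    exact c.no3 p₁ hp₁ q₁ hq₁ t ht h12 h2t h1t z e u (hd1 ▸ hzo)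
      (hE.orderOf_eq (c.prime q₁ hq₁) he he1) hu (mem_centralizer_singleton_iff.1 hz.2)
      (mem_centralizer_singleton_iff.1 (hLu (hHL (hEH he))))
      (mem_centralizer_singleton_iff.1 (hLu (hHL (hBH hz.1))))
  rcases eq_or_eq_of_isPGroup hd hBp hBH hBne hH with h | h
  · exact key p q hp hq hpq hpt hqt h hq2
  · exact key q p hq hp hpq.symm hqt hpt h hp2

/-- Two fixed-point-free elements of different prime orders cannot both centralise an element of a
third prime order. -/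
theorem Cfg.not_two_fpf (c : Cfg σ r V L) {p q t : ℕ} (hp : p ∈ σ) (hq : q ∈ σ) (ht : t ∈ σ)
    (hpq : p ≠ q) (hpt : p ≠ t) (hqt : q ≠ t) (hpr : p ≠ r) (hqr : q ≠ r) {u e f : G}
    (hu : orderOf u = t) (he : orderOf e = p) (hf : orderOf f = q) (heL : e ∈ L) (hfL : f ∈ L)
    (heu : e * u = u * e) (hfu : f * u = u * f) (hVe : V ⊓ centralizer {e} = ⊥)
    (hVf : V ⊓ centralizer {f} = ⊥) : False := by
  have hp' := c.prime p hp
  have hq' := c.prime q hq
  set Z : Subgroup G := L ⊓ centralizer {u}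
  have : Group.IsSolvable Z := Coprime.isSolvable_of_le inf_le_left c.sol
  obtain ⟨H, hHZ, hH, hK⟩ := exists_hall_two hp' hq' hpq Z
  have conj : ∀ (d : ℕ) (g : G), (d = p ∨ d = q) → orderOf g = d → g ∈ Z →
      V ⊓ centralizer {g} = ⊥ →
      ∃ g' ∈ H, orderOf g' = d ∧ V ⊓ centralizer {g'} = ⊥ := by
    intro d g hd hg hgZ hVg
    obtain ⟨x, hx, hxg⟩ := hK (zpowers g) (zpowers_le.2 hgZ) fun d' hd' h => by
      rw [Nat.card_zpowers, hg] at h
      rcases hd with rfl | rfl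
      · exact Or.inl ((Nat.prime_dvd_prime_iff_eq hd' hp').1 h)
      · exact Or.inr ((Nat.prime_dvd_prime_iff_eq hd' hq').1 h)
    refine ⟨_, hxg g (mem_zpowers g), by rw [orderOf_conj', hg], (eq_bot_iff_forall _).2 ?_⟩
    rintro v ⟨hv, hvc⟩
    have hxV := c.hLV hx.1
    have h1 : x⁻¹ * v * x ∈ V ⊓ centralizer {g} := by
      refine ⟨(mem_normalizer_iff''.1 hxV v).1 hv, mem_centralizer_singleton_iff.2 ?_⟩
      have h2 : v * (x * g * x⁻¹) = x * g * x⁻¹ * v := mem_centralizer_singleton_iff.1 hvc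
      calc x⁻¹ * v * x * g = x⁻¹ * (v * (x * g * x⁻¹)) * x := by group
        _ = x⁻¹ * (x * g * x⁻¹ * v) * x := by rw [h2]
        _ = g * (x⁻¹ * v * x) := by group
    rw [hVg, mem_bot] at h1
    calc v = x * (x⁻¹ * v * x) * x⁻¹ := by group
      _ = 1 := by rw [h1, mul_one, mul_inv_cancel]
  obtain ⟨e', he'H, he', hVe'⟩ :=
    conj p e (Or.inl rfl) he ⟨heL, mem_centralizer_singleton_iff.2 heu⟩ hVe
  obtain ⟨f', hf'H, hf', hVf'⟩ :=
    conj q f (Or.inr rfl) hf ⟨hfL, mem_centralizer_singleton_iff.2 hfu⟩ hVf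
  have : Group.IsSolvable H := Coprime.isSolvable_of_le (hHZ.trans inf_le_left) c.sol
  have hne : H ≠ ⊥ := by
    intro h
    rw [h, mem_bot] at he'H
    exact hp'.ne_one (by rw [← he', he'H, orderOf_one])
  obtain ⟨d, B, hd, hBH, hBne, hHB, hBel⟩ := exists_elementary_of_solvable hne
  have hBp := PGroup.isPGroup_of_elementaryAbelian hBel
  obtain ⟨z, hz, hzo⟩ := exists_order_of_ne_bot hd hBp le_rfl hBne
  have key : ∀ (p₁ q₁ : ℕ) (g : G), p₁ ∈ σ → q₁ ∈ σ → p₁ ≠ q₁ → p₁ ≠ t → q₁ ≠ t → p₁ ≠ r →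
      q₁ ≠ r → d = p₁ → orderOf g = q₁ → g ∈ H → V ⊓ centralizer {g} = ⊥ → False := by
    intro p₁ q₁ g hp₁ hq₁ h12 h1t h2t h1r h2r hd1 hg hgH hVg
    have h := c.centralizes hp₁ hq₁ h12 h1r h2r hg (hHZ hgH).1 (hd1 ▸ hBel)
      (hBH.trans (hHZ.trans inf_le_left)) (hHB hgH) hVg hz
    exact c.no3 p₁ hp₁ q₁ hq₁ t ht h12 h2t h1t z g u (hd1 ▸ hzo) hg hu
      (mem_centralizer_singleton_iff.1 h) (mem_centralizer_singleton_iff.1 (hHZ hgH).2)
      (mem_centralizer_singleton_iff.1 (hHZ (hBH hz)).2)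
  rcases eq_or_eq_of_isPGroup hd hBp hBH hBne hH with h | h
  · exact key p q f' hp hq hpq hpt hqt hpr hqr h hf' hf'H hVf'
  · exact key q p e' hq hp hpq.symm hqt hpt hqr hpr h he' he'H hVe'

/-- `O_p(H)` as a subgroup of the ambient group. -/
def coreIn (p : ℕ) (H : Subgroup G) : Subgroup G := (Cfsg.pCore p H).map H.subtype

omit [Finite G] in
theorem coreIn_le (p : ℕ) (H : Subgroup G) : coreIn p H ≤ H := map_subtype_le _

omit [Finite G] in
theorem le_normalizer_coreIn (p : ℕ) (H : Subgroup G) :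
    H ≤ normalizer (coreIn p H : Set G) := by
  have h := le_normalizer_map H.subtype (H := Cfsg.pCore p H)
  rw [normalizer_eq_top (H := Cfsg.pCore p H)] at h
  rwa [← MonoidHom.range_eq_map, range_subtype] at h

theorem isPGroup_coreIn (p : ℕ) (H : Subgroup G) : IsPGroup p (coreIn p H) :=
  (Components.isPGroup_pCore' p).map _

omit [Finite G] in
theorem le_coreIn {p : ℕ} {H B : Subgroup G} (hB : IsPGroup p B) (hBH : B ≤ H)
    (hn : H ≤ normalizer (B : Set G)) : B ≤ coreIn p H := by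
  have : (B.subgroupOf H).Normal := normal_subgroupOf_of_le_normalizer hn
  have h := PCore.le_pCore (p := p) (N := B.subgroupOf H) hB.comap_subtype
  intro x hx
  exact ⟨⟨x, hBH hx⟩, h (mem_subgroupOf.2 hx), rfl⟩

/-- If `O_d(H)` is trivial for every prime `d ≠ p`, then `C_H(O_p(H)) ≤ O_p(H)`. -/
theorem centralizer_coreIn_le {p : ℕ} {H : Subgroup G} [Group.IsSolvable H]
    (h : ∀ d : ℕ, d.Prime → d ≠ p → coreIn d H = ⊥) :
    H ⊓ centralizer (coreIn p H : Set G) ≤ coreIn p H := by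
  rintro x ⟨hx, hxc⟩
  have hF : Cfsg.fittingSubgroup H ≤ Cfsg.pCore p H := by
    rw [Components.fittingSubgroup_eq_iSup_pCore]
    refine iSup_le fun d => ?_
    by_cases hdp : (d : ℕ) = p
    · rw [hdp]
    · rw [(map_eq_bot_iff_of_injective _ H.subtype_injective).1 (h d (Nat.prime_of_mem_primeFactors d.2) hdp)]
      exact bot_le
  refine ⟨⟨x, hx⟩, hF (Components.centralizer_fittingSubgroup_le (mem_centralizer_iff.2 ?_)), rfl⟩
  intro y hy
  exact Subtype.ext (mem_centralizer_iff.1 hxc y ⟨y, hF hy, rfl⟩)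

/-- The endgame for a group of order `p` normal in a `{p, q}`-group. -/
theorem no_line {p q : ℕ} (hp : p.Prime) (hq : q.Prime) (hpq : p ≠ q) {H E Ep : Subgroup G}
    [Group.IsSolvable H] (hH : ∀ d : ℕ, d.Prime → d ∣ Nat.card H → d = p ∨ d = q) {a : G}
    (ha : orderOf a = p) (haH : a ∈ H) (hHa : H ≤ normalizer (zpowers a : Set G))
    (hE : IsSq q E) (hEH : E ≤ H) (hEp : IsSq p Ep) (hEpH : Ep ≤ H)
    (hnoSq : ∀ E' ≤ H, IsSq q E' → ¬ E' ≤ centralizer {a})
    (hR : ∀ g ∈ E, g * a ≠ a * g → coreIn p H ⊓ centralizer {g} = ⊥)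
    (hb : ∀ b ∈ H, orderOf b = q → Ep ≤ centralizer {b} → False) : False := by
  have := Fact.mk hp
  have hap : IsPGroup p (zpowers a) := isPGroup_zpowers hp ha
  have hne : zpowers a ≠ ⊥ := by
    rw [Ne, zpowers_eq_bot]
    rintro rfl
    exact hp.ne_one (orderOf_one.symm.trans ha).symm
  obtain ⟨f, hfE, hf1, hfix⟩ := exists_fix hp hq hpq hE hap (hEH.trans hHa) hne
  obtain ⟨a', ha', ha'1⟩ := (ne_bot_iff_exists_ne_one).1 hfix |>.elim fun z hz =>
    (⟨(z : G), z.2, fun h => hz (Subtype.ext h)⟩ : ∃ a', a' ∈ zpowers a ⊓ centralizer {f} ∧ a' ≠ 1)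
  have hfa : f * a = a * f := by
    refine commute_of_mem_zpowers (mem_centralizer_singleton_iff.1 ha'.2).symm ?_
    rw [zpowers_eq_of_mem hp ha ha'.1 ha'1]
    exact mem_zpowers a
  obtain ⟨g, hgE, hga⟩ : ∃ g ∈ E, g * a ≠ a * g := by
    by_contra h
    push Not at h
    exact hnoSq E hEH hE fun g hg => mem_centralizer_singleton_iff.2 (h g hg)
  set R := coreIn p H
  have hRf : R ≤ centralizer {f} := by
    have := hE.elem.1
    refine le_of_eq_of_le (Coprime.eq_of_forall_centralizer_le (S := R ⊓ centralizer {f})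
      (hE.not_cyclic hq) (hEH.trans (le_normalizer_coreIn p H))
      (coprime_of_isPGroup hq hp hpq.symm hE.isPGroup (isPGroup_coreIn p H)) inf_le_left
      fun e he he1 => ?_).symm inf_le_right
    by_cases hea : e * a = a * e
    · have hef : e ∈ zpowers f := by
        by_contra h
        exact hnoSq E hEH hE (hE.le_of_two hq hfE he hf1 h (mem_centralizer_singleton_iff.2 hfa)
          (mem_centralizer_singleton_iff.2 hea))
      rw [centralizer_eq_of_mem hq (hE.orderOf_eq hq hfE hf1) hef he1]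
    · rw [hR e he hea]
      exact bot_le
  have hq1 : q ∣ p - 1 := dvd_sub_one_of_moved hp hq ha
    (hE.orderOf_eq hq hgE fun h => hga (by rw [h, one_mul, mul_one]))
    (conj_mem_zpowers_of_le_normalizer hHa (hEH hgE)) hga
  by_cases hO : coreIn q H = ⊥
  · have hfR : f ∈ R := by
      refine centralizer_coreIn_le (fun d hd hdp => ?_)
        ⟨hEH hfE, mem_centralizer_iff.2 fun y hy => mem_centralizer_singleton_iff.1 (hRf hy)⟩
      by_contra hne'
      rcases eq_or_eq_of_isPGroup hd (isPGroup_coreIn d H) (coreIn_le d H) hne' hH with h | h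
      · exact hdp h
      · exact hne' (h ▸ hO)
    obtain ⟨n, hn⟩ := (isPGroup_coreIn p H) ⟨f, hfR⟩
    have h1 : q ∣ p ^ n := by
      rw [← hE.orderOf_eq hq hfE hf1]
      exact orderOf_dvd_of_pow_eq_one (congrArg Subtype.val hn)
    exact hpq.symm ((Nat.prime_dvd_prime_iff_eq hq hp).1 (hq.dvd_of_dvd_pow h1))
  · obtain ⟨B, hBQ, hBne, hHB, hBel⟩ :=
      exists_elementary_normalized hq (isPGroup_coreIn q H) hO (le_normalizer_coreIn q H)
    have hBH : B ≤ H := hBQ.trans (coreIn_le q H)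
    have hBp := PGroup.isPGroup_of_elementaryAbelian hBel
    obtain ⟨b, hbB, hbo⟩ := exists_order_of_ne_bot hq hBp le_rfl hBne
    have haB : B ≤ centralizer {a} := by
      intro x hx
      refine mem_centralizer_singleton_iff.2 ?_
      have h1 : x * a * x⁻¹ * a⁻¹ ∈ zpowers a :=
        mul_mem (conj_mem_zpowers_of_le_normalizer hHa (hBH hx)) (inv_mem (mem_zpowers a))
      have h2 : x * a * x⁻¹ * a⁻¹ ∈ B := by
        rw [show x * a * x⁻¹ * a⁻¹ = x * (a * x⁻¹ * a⁻¹) by group]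
        exact mul_mem hx ((mem_normalizer_iff.1 (hHB haH) _).1 (inv_mem hx))
      have hd := Coprime.disjoint_of_coprime_card (coprime_of_isPGroup hp hq hpq hap hBp)
      have h3 : x * a * x⁻¹ * a⁻¹ ∈ zpowers a ⊓ B := ⟨h1, h2⟩
      rw [hd, mem_bot, mul_inv_eq_one, mul_inv_eq_iff_eq_mul] at h3
      exact h3
    have hBb : ∀ x ∈ B, x ∈ zpowers b := by
      intro x hx
      by_contra hxb
      have hx1 : x ≠ 1 := fun h => hxb (h ▸ one_mem _)
      have := Fact.mk hq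
      exact hnoSq _ (sup_le (zpowers_le.2 (hBH hbB)) (zpowers_le.2 (hBH hx)))
        (isSq_sup hq hbo (orderOf_eq_prime (hBel.2 x hx) hx1)
          (PGroup.mul_comm_of_elementaryAbelian hBel hbB hx) hxb)
        (sup_le (zpowers_le.2 (haB hbB)) (zpowers_le.2 (haB hx)))
    refine hb b (hBH hbB) hbo fun x hx => mem_centralizer_singleton_iff.2 ?_
    by_cases hx1 : x = 1
    · rw [hx1, one_mul, mul_one]
    refine commute_of_coprime_sub_one hq hbo
      (hBb _ ((mem_normalizer_iff.1 (hHB (hEpH hx)) b).1 hbB)) ?_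
    rw [hEp.orderOf_eq hp hx hx1, hp.coprime_iff_not_dvd]
    intro h
    have := Nat.le_of_dvd (by have := hq.two_le; omega) h
    have := Nat.le_of_dvd (by have := hp.two_le; omega) hq1
    omega

end Cfsg.Agent.Joined
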