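import Cfsg.Agent.Lib.Joined.Noncyclic
import Cfsg.Agent.Lib.PGroup.NormalElementary
import Cfsg.Agent.Lib.PGroup.Class2
import Cfsg.Agent.Lib.PGroup.UniqueOrderP

/-!
# All normal elementary abelian subgroups are cyclic

* `not_forall_cyclic_pCore`: a solvable group with a square for its largest prime has a noncyclic
  `O_d`;
* `NearCentre`, `exists_nearCentre`, `exists_conj_mul`: the elements of order `t` whose
  commutators with `T` lie in the unique central subgroup of order `t`;
* `core_data`: the centre line of a noncyclic core;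
* `Cfg.one_prime_false`: the configuration with three primes is impossible.
-/

set_option autoImplicit false

namespace Cfsg.Agent.Joined

open Subgroup
open scoped commutatorElement

theorem not_forall_cyclic_pCore {X : Type*} [Group X] [Finite X] [Group.IsSolvable X] {p : ℕ}
    (hp : p.Prime) (hmax : ∀ d : ℕ, d.Prime → d ∣ Nat.card X → d ≤ p)
    (hsq : HasSq p (⊤ : Subgroup X)) :
    ¬ ∀ d : ℕ, d.Prime → IsCyclic (Cfsg.pCore d X) := by
  intro hcyc
  have := Fact.mk hp
  obtain ⟨E, -, hE⟩ := hsq.exists_isSq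
  set F := Cfsg.fittingSubgroup X
  have hconj : ∀ d : ℕ, d.Prime → ∃ f : X →* MulAut (Cfsg.pCore d X),
      ∀ x, f x = 1 ↔ x ∈ centralizer (Cfsg.pCore d X : Set X) := by
    intro d _
    have := Components.pCore_normal' (G := X) d
    refine ⟨MulAut.conjNormal, fun x => ⟨fun h => mem_centralizer_iff.2 fun y hy => ?_,
      fun h => MulEquiv.ext fun y => Subtype.ext ?_⟩⟩
    · have h1 := congrArg Subtype.val (DFunLike.congr_fun h (⟨y, hy⟩ : Cfsg.pCore d X))
      simp only [MulAut.conjNormal_apply, MulAut.one_apply] at h1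
      exact (mul_inv_eq_iff_eq_mul.1 h1).symm
    · simp only [MulAut.conjNormal_apply, MulAut.one_apply]
      exact mul_inv_eq_iff_eq_mul.2 (mem_centralizer_iff.1 h y y.2).symm
  have habel : ∀ x y : X, ∀ d : ℕ, d.Prime → ⁅x, y⁆ ∈ centralizer (Cfsg.pCore d X : Set X) := by
    intro x y d hd
    obtain ⟨f, hf⟩ := hconj d hd
    have := hcyc d hd
    let e := IsCyclic.mulAutMulEquiv (Cfsg.pCore d X)
    refine (hf _).1 (e.injective ?_)
    rw [map_commutatorElement, map_commutatorElement, map_one, commutatorElement_eq_one_iff_mul_comm,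
      mul_comm]
  have hEd : ∀ d : ℕ, d.Prime → d ≠ p → E ≤ centralizer (Cfsg.pCore d X : Set X) := by
    intro d hd hdp x hx
    obtain ⟨f, hf⟩ := hconj d hd
    refine (hf x).1 ?_
    have := Fact.mk hd
    have := hcyc d hd
    obtain ⟨n, hn⟩ := (Components.isPGroup_pCore' (G := X) d).exists_card_eq
    rcases Nat.eq_zero_or_pos n with rfl | hn0
    · have : Subsingleton (Cfsg.pCore d X) := (Nat.card_eq_one_iff_unique.1 (by simpa using hn)).1
      exact MulEquiv.ext fun y => Subsingleton.elim _ _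
    have hlt : d < p := lt_of_le_of_ne
      (hmax d hd ((dvd_pow_self d hn0.ne').trans (hn ▸ card_subgroup_dvd_card _))) hdp
    refine orderOf_eq_one_iff.1 (Nat.eq_one_of_dvd_coprimes (k := orderOf (f x)) (?_ :
      p.Coprime (Nat.card (MulAut (Cfsg.pCore d X)))) ?_ (orderOf_dvd_natCard _))
    · rw [IsCyclic.card_mulAut, hn, Nat.totient_prime_pow hd hn0, hp.coprime_iff_not_dvd]
      intro h
      rcases hp.dvd_mul.1 h with h | h
      · exact hdp ((Nat.prime_dvd_prime_iff_eq hp hd).1 (hp.dvd_of_dvd_pow h)).symm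
      · have := Nat.le_of_dvd (by have := hd.two_le; omega) h
        omega
    · exact orderOf_dvd_of_pow_eq_one (by rw [← map_pow, hE.elem.2 x hx, map_one])
  have hOpn := Components.pCore_normal' (G := X) p
  have hOp : IsPGroup p (Cfsg.pCore p X) := Components.isPGroup_pCore' p
  set P := Cfsg.pCore p X ⊔ E
  have hP : IsPGroup p P := hOp.to_sup_of_normal_left hE.isPGroup
  have hFc : ∀ x : X, (∀ d : ℕ, d.Prime → x ∈ centralizer (Cfsg.pCore d X : Set X)) →
      x ∈ centralizer (F : Set X) := by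
    intro x hx
    have : F ≤ centralizer {x} := by
      show Cfsg.fittingSubgroup X ≤ _
      rw [Components.fittingSubgroup_eq_iSup_pCore]
      exact iSup_le fun d y hy => mem_centralizer_singleton_iff.2
        (mem_centralizer_iff.1 (hx d (Nat.prime_of_mem_primeFactors d.2)) y hy)
    exact mem_centralizer_iff.2 fun y hy => mem_centralizer_singleton_iff.1 (this hy)
  have hcomm : ∀ x y : X, ⁅x, y⁆ ∈ F := fun x y =>
    Components.centralizer_fittingSubgroup_le (hFc _ fun d hd => habel x y d hd)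
  have hFP : F ≤ normalizer (P : Set X) := by
    show Cfsg.fittingSubgroup X ≤ _
    rw [Components.fittingSubgroup_eq_iSup_pCore]
    refine iSup_le fun d => ?_
    by_cases hdp : (d : ℕ) = p
    · rw [hdp]
      exact le_sup_left.trans le_normalizer
    · have hd := Nat.prime_of_mem_primeFactors d.2
      have hdn := Components.pCore_normal' (G := X) (d : ℕ)
      refine (le_centralizer_iff.1 (sup_le ?_ (hEd d hd hdp))).trans (centralizer_le_normalizer _)
      intro x hx
      refine mem_centralizer_iff.2 fun y hy => ?_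
      exact (Subgroup.commute_of_normal_of_disjoint _ _ hdn hOpn
        (IsPGroup.disjoint_of_ne (hp₁ := Fact.mk hd) (d : ℕ) p hdp _ _
          (Components.isPGroup_pCore' _) hOp) y x hy hx)
  set N := F ⊔ E
  have hPN : P ≤ N :=
    sup_le ((Components.pCore_le_fittingSubgroup hp).trans le_sup_left) le_sup_right
  have hNn : N.Normal := ⟨fun n hn g => by
    rw [show g * n * g⁻¹ = ⁅g, n⁆ * n by group]
    exact mul_mem (mem_sup_left (hcomm g n)) hn⟩
  have hNP : N ≤ normalizer (P : Set X) := sup_le hFP (le_sup_right.trans le_normalizer)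
  have hPn' : (P.subgroupOf N).Normal := normal_subgroupOf_of_le_normalizer hNP
  have hFn : F.Normal := sSup_normal _ fun _ h => h.1
  have hNnil : Group.IsNilpotent N := by
    rw [← Components.fittingSubgroup_eq_top_iff, eq_top_iff]
    intro x _
    have hPnil : Group.IsNilpotent (P.subgroupOf N) :=
      ((hP.comap_subtype (K := N))).isNilpotent
    have hFnil : Group.IsNilpotent (F.subgroupOf N) :=
      (Group.isNilpotent_congr (subgroupOfEquivOfLe le_sup_left)).mpr
        (Components.fittingSubgroup_isNilpotent X)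
    have h1 := Components.le_fittingSubgroup (N := P.subgroupOf N) hPn'
    have h2 := Components.le_fittingSubgroup (N := F.subgroupOf N) (hFn.comap _)
    have hle : N ≤ (Cfsg.fittingSubgroup N).map N.subtype := sup_le
      (fun y hy => ⟨⟨y, mem_sup_left hy⟩, h2 hy, rfl⟩)
      (fun y hy => ⟨⟨y, mem_sup_right hy⟩, h1 (mem_sup_right hy : y ∈ P), rfl⟩)
    obtain ⟨y, hy, hyx⟩ := hle x.2
    rwa [← Subtype.ext hyx]
  have hEp : E ≤ Cfsg.pCore p X := by
    have h1 : P.subgroupOf N ≤ Cfsg.pCore p N := PCore.le_pCore hP.comap_subtype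
    have h2 : ((Cfsg.pCore p N).map N.subtype).Normal := inferInstance
    have h3 : (Cfsg.pCore p N).map N.subtype ≤ Cfsg.pCore p X :=
      PCore.le_pCore ((Components.isPGroup_pCore' p).map _)
    exact fun x hx => h3 ⟨⟨x, hPN (mem_sup_right hx)⟩, h1 (mem_sup_right hx : x ∈ P), rfl⟩
  have := hcyc p hp
  exact hE.not_cyclic hp (isCyclic_of_injective (inclusion hEp) (inclusion_injective hEp))

variable {G : Type*} [Group G] [Finite G]

/-- The elements of order dividing `t` whose commutators with `T` lie in `⟨u⟩`. -/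
def IsNearCentre (t : ℕ) (T : Subgroup G) (u x : G) : Prop :=
  x ∈ T ∧ x ^ t = 1 ∧ ∀ y ∈ T, ⁅x, y⁆ ∈ zpowers u

variable {t : ℕ} {T : Subgroup G} {u : G}

theorem exists_nearCentre (ht : t.Prime) (ht2 : t ≠ 2) (hT : IsPGroup t T) (hsq : HasSq t T)
    (huT : u ∈ T) (hu : orderOf u = t) (huc : ∀ y ∈ T, u * y = y * u)
    (huniq : ∀ z ∈ T, z ^ t = 1 → (∀ y ∈ T, z * y = y * z) → z ∈ zpowers u) :
    ∃ x, IsNearCentre t T u x ∧ x ∉ zpowers u := by
  have := Fact.mk ht
  let u' : T := ⟨u, huT⟩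
  have hu' : u' ^ t = 1 := Subtype.ext (by rw [← hu]; simp [u', pow_orderOf_eq_one])
  have huc' : ∀ y : T, u' * y = y * u' := fun y => Subtype.ext (huc y y.2)
  have hUn : (zpowers u').Normal := ⟨by
    rintro _ ⟨n, rfl⟩ g
    refine ⟨n, ?_⟩
    simp only
    rw [(Commute.zpow_left (huc' g) n : Commute (u' ^ n) g).symm.eq, mul_inv_cancel_right]⟩
  have huniq' : ∀ z : T, z ^ t = 1 → z ∈ center T → z ∈ zpowers u' := by
    intro z hz hzc
    obtain ⟨n, hn⟩ := huniq z z.2 (by simpa using congrArg Subtype.val hz) fun y hy =>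
      congrArg Subtype.val ((mem_center_iff.1 hzc ⟨y, hy⟩).symm)
    exact ⟨n, Subtype.ext (by simpa [u'] using hn)⟩
  obtain ⟨U, hU, hUmax⟩ := (Set.toFinite {A : Subgroup T | zpowers u' ≤ A ∧ A.Normal ∧
    IsElementaryAbelian t A}).exists_maximal ⟨_, le_rfl, hUn, PGroup.isElementaryAbelian_zpowers hu'⟩
  obtain ⟨huU, hUn', hUe⟩ := hU
  have hne : ¬ U ≤ zpowers u' := by
    intro hle
    obtain ⟨E, hET, hE⟩ := hsq.exists_isSq
    obtain ⟨b, hb, hbu⟩ : ∃ b ∈ E, b ∉ zpowers u := by
      obtain ⟨a, ha, ha1⟩ := hE.exists_not_mem ht (one_mem E)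
      by_contra h
      push Not at h
      obtain ⟨b, hb, hba⟩ := hE.exists_not_mem ht ha
      refine hba ?_
      rw [zpowers_eq_of_mem ht hu (h a ha) fun h' => ha1 (by rw [h']; exact one_mem _)]
      exact h b hb
    have hmem := PGroup.mem_of_centralizer_of_maximal_normal ht2 hT hUe
      (fun F hF hFe hUF => le_antisymm (hUmax ⟨huU.trans hUF, hF, hFe⟩ hUF) hUF)
      (x := ⟨b, hET hb⟩) ?_ (Subtype.ext (hE.elem.2 b hb))
    · obtain ⟨n, hn⟩ := hle hmem
      exact hbu ⟨n, by simpa [u'] using congrArg Subtype.val hn⟩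
    · refine mem_centralizer_iff.2 fun y hy => ?_
      obtain ⟨n, rfl⟩ := hle hy
      exact (Commute.zpow_left (huc' _) n : _)
  obtain ⟨k, hk⟩ := PGroup.card_eq_pow hT U
  have hcu : Nat.card (zpowers u') = t := by
    rw [Nat.card_zpowers, ← orderOf_coe, hu]
  have hk2 : 2 ≤ k := by
    by_contra h
    refine hne (eq_of_le_of_card_ge huU ?_).ge
    rw [hk, hcu]
    calc t ^ k ≤ t ^ 1 := Nat.pow_le_pow_right ht.pos (by omega)
      _ = t := pow_one t
  obtain ⟨N, hNn, huN, hNU, hNc⟩ := PGroup.exists_normal_card_between hT (zpowers u') U huU 2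
    (by rw [hcu, sq]; exact Nat.le_mul_self t)
    (hk ▸ Nat.pow_le_pow_right ht.pos hk2)
  obtain ⟨x, hxN, hxu⟩ : ∃ x ∈ N, x ∉ zpowers u' := by
    by_contra h
    push Not at h
    have := card_le_of_le h
    rw [hNc, hcu] at this
    nlinarith [ht.two_le]
  have hNne : N ≠ ⊥ := fun h => hxu (by rw [mem_bot.1 (h ▸ hxN : x ∈ (⊥ : Subgroup T))]; exact one_mem _)
  have hlt := PGroup.commutator_top_lt hT N hNne
  have hCn : (⁅N, (⊤ : Subgroup T)⁆).Normal := commutator_normal N ⊤
  obtain ⟨j, hj⟩ := PGroup.card_eq_pow hT ⁅N, (⊤ : Subgroup T)⁆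
  have hj1 : j ≤ 1 := by
    by_contra h
    refine hlt.ne (eq_of_le_of_card_ge hlt.le ?_)
    rw [hNc, hj]
    exact Nat.pow_le_pow_right ht.pos (by omega)
  have hCc : ⁅N, (⊤ : Subgroup T)⁆ ≤ center T := by
    interval_cases j
    · rw [Subgroup.card_eq_one.1 (hj.trans (pow_zero t))]
      exact bot_le
    · exact PGroup.le_center_of_card_eq hT _ (by simpa using hj)
  refine ⟨x, ⟨x.2, by simpa using congrArg Subtype.val (hUe.2 x (hNU hxN)), fun y hy => ?_⟩, ?_⟩
  · have hc := commutator_mem_commutator hxN (mem_top (⟨y, hy⟩ : T))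
    obtain ⟨n, hn⟩ := huniq' _ (hUe.2 _ (hNU (hlt.le hc))) (hCc hc)
    exact ⟨n, by simpa [u', commutatorElement_def] using congrArg Subtype.val hn⟩
  · rintro ⟨n, hn⟩
    exact hxu ⟨n, Subtype.ext (by simpa [u'] using hn)⟩

omit [Finite G] in
/-- A non-central near-centre element is conjugate to all its translates by `⟨u⟩`. -/
theorem exists_conj_mul (ht : t.Prime) (hu : orderOf u = t)
    (huc : ∀ y ∈ T, u * y = y * u)
    (huniq : ∀ z ∈ T, z ^ t = 1 → (∀ y ∈ T, z * y = y * z) → z ∈ zpowers u)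
    {x : G} (hx : IsNearCentre t T u x) (hxu : x ∉ zpowers u) (m : ℤ) :
    ∃ z ∈ T, z * x * z⁻¹ = x * u ^ m := by
  obtain ⟨y, hy, hne⟩ : ∃ y ∈ T, ⁅x, y⁆ ≠ 1 := by
    by_contra h
    push Not at h
    exact hxu (huniq x hx.1 hx.2.1 fun y hy =>
      commutatorElement_eq_one_iff_mul_comm.1 (h y hy))
  have hc : ⁅y, x⁆ ∈ zpowers u := by
    rw [← commutatorElement_inv]
    exact inv_mem (hx.2.2 y hy)
  have hc1 : ⁅y, x⁆ ≠ 1 := by
    rw [← commutatorElement_inv, Ne, inv_eq_one]
    exact hne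
  have hcc : (⁅(⟨y, hy⟩ : T), (⟨x, hx.1⟩ : T)⁆) ∈ center T := by
    refine mem_center_iff.2 fun w => Subtype.ext ?_
    exact commute_of_mem_zpowers (huc w w.2).symm hc
  obtain ⟨j, hj⟩ : u ^ m ∈ zpowers ⁅y, x⁆ := by
    rw [zpowers_eq_of_mem ht hu hc hc1]
    exact zpow_mem (mem_zpowers u) m
  simp only at hj
  refine ⟨y ^ j, zpow_mem hy j, ?_⟩
  have h := congrArg Subtype.val
    (PGroup.commutator_zpow_left (a := (⟨y, hy⟩ : T)) (b := ⟨x, hx.1⟩) hcc j)
  simp only [commutatorElement_def, Subgroup.coe_mul, Subgroup.coe_inv, SubgroupClass.coe_zpow] at h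
  rw [commutatorElement_def] at hj
  rw [hj] at h
  calc y ^ j * x * (y ^ j)⁻¹ = y ^ j * x * (y ^ j)⁻¹ * x⁻¹ * x := by group
    _ = u ^ m * x := by rw [h]
    _ = x * u ^ m := ((show Commute u x from huc x hx.1).zpow_left m).eq

omit [Finite G] in
theorem le_normalizer_zpowers {H : Subgroup G} {a : G}
    (h : ∀ g ∈ H, g * a * g⁻¹ ∈ zpowers a) : H ≤ normalizer (zpowers a : Set G) := by
  have hk : ∀ g ∈ H, ∀ z ∈ zpowers a, g * z * g⁻¹ ∈ zpowers a := by
    rintro g hg _ ⟨n, rfl⟩
    simp only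
    rw [← conj_zpow]
    exact zpow_mem (h g hg) n
  intro g hg
  refine mem_normalizer_iff.2 fun z => ⟨hk g hg z, fun hz => ?_⟩
  have := hk g⁻¹ (inv_mem hg) _ hz
  rwa [inv_inv, show g⁻¹ * (g * z * g⁻¹) * g = z by group] at this

/-- The centre line of `O_t(L)` when no normal elementary abelian `t`-subgroup contains a square. -/
theorem core_data (ht : t.Prime) {L : Subgroup G} (hT : coreIn t L ≠ ⊥)
    (hcyc : ∀ B ≤ L, L ≤ normalizer (B : Set G) → IsElementaryAbelian t B → ¬ HasSq t B) :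
    ∃ u, u ∈ coreIn t L ∧ orderOf u = t ∧ (∀ y ∈ coreIn t L, u * y = y * u) ∧
      (∀ z ∈ coreIn t L, z ^ t = 1 → (∀ y ∈ coreIn t L, z * y = y * z) → z ∈ zpowers u) ∧
      L ≤ normalizer (zpowers u : Set G) := by
  have := Fact.mk ht
  set T := coreIn t L
  have hTp := isPGroup_coreIn t L
  let B : Subgroup G :=
    { carrier := {z | z ∈ T ∧ z ^ t = 1 ∧ ∀ y ∈ T, z * y = y * z}
      one_mem' := ⟨one_mem _, one_pow _, fun y _ => by rw [one_mul, mul_one]⟩
      mul_mem' := fun {a b} ha hb => ⟨mul_mem ha.1 hb.1,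
        by rw [(show Commute a b from ha.2.2 b hb.1).mul_pow, ha.2.1, hb.2.1, one_mul],
        fun y hy => (Commute.mul_left (ha.2.2 y hy) (hb.2.2 y hy) : _)⟩
      inv_mem' := fun {a} ha => ⟨inv_mem ha.1, by rw [inv_pow, ha.2.1, inv_one],
        fun y hy => (Commute.inv_left (ha.2.2 y hy) : _)⟩ }
  have hne' : (⊤ : Subgroup T) ≠ ⊥ := by
    intro h
    apply hT
    rw [← range_subtype T, MonoidHom.range_eq_map, h, Subgroup.map_bot]
  obtain ⟨z, -, hz, hzo⟩ := PGroup.exists_orderOf_eq_mem_center hTp ⊤ hne'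
  have hzo' : orderOf (z : G) = t := by rwa [orderOf_coe]
  have hzB : (z : G) ∈ B := ⟨z.2, by simpa [hzo'] using pow_orderOf_eq_one (z : G),
    fun y hy => congrArg Subtype.val ((mem_center_iff.1 hz ⟨y, hy⟩).symm)⟩
  have hBn : L ≤ normalizer (B : Set G) := by
    have key : ∀ g ∈ L, ∀ x ∈ B, g * x * g⁻¹ ∈ B := by
      intro g hg x hx
      have hgT := le_normalizer_coreIn t L hg
      refine ⟨(mem_normalizer_iff.1 hgT x).1 hx.1, by rw [conj_pow, hx.2.1, mul_one, mul_inv_cancel],
        fun y hy => ?_⟩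
      have hy' : g⁻¹ * y * g ∈ T := (mem_normalizer_iff''.1 hgT y).1 hy
      calc g * x * g⁻¹ * y = g * (x * (g⁻¹ * y * g)) * g⁻¹ := by group
        _ = g * ((g⁻¹ * y * g) * x) * g⁻¹ := by rw [hx.2.2 _ hy']
        _ = y * (g * x * g⁻¹) := by group
    intro g hg
    refine mem_normalizer_iff.2 fun x => ⟨key g hg x, fun h => ?_⟩
    have := key g⁻¹ (inv_mem hg) _ h
    rwa [inv_inv, show g⁻¹ * (g * x * g⁻¹) * g = x by group] at this
  have hBe : IsElementaryAbelian t B :=
    PGroup.isElementaryAbelian_of_forall (fun a ha b hb => ha.2.2 b hb.1) fun a ha => ha.2.1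
  have huniq : ∀ x ∈ B, x ∈ zpowers (z : G) := by
    intro x hx
    by_contra hxz
    have hx1 : x ≠ 1 := fun h => hxz (by rw [h]; exact one_mem _)
    exact hcyc B (fun y hy => coreIn_le t L hy.1) hBn hBe
      ((isSq_sup ht hzo' (orderOf_eq_prime hx.2.1 hx1) (hzB.2.2 x hx.1) hxz).hasSq
        (sup_le (zpowers_le.2 hzB) (zpowers_le.2 hx)))
  refine ⟨z, z.2, hzo', hzB.2.2, fun x hx h1 h2 => huniq x ⟨hx, h1, h2⟩,
    le_normalizer_zpowers fun g hg => huniq _ ((mem_normalizer_iff.1 (hBn hg) _).1 hzB)⟩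

omit [Finite G] in
theorem exists_zpow_mul {a b x : G} (hab : a * b = b * a) (hx : x ∈ zpowers a ⊔ zpowers b) :
    ∃ i j : ℤ, x = a ^ i * b ^ j := by
  let S : Subgroup G :=
    { carrier := {x | ∃ i j : ℤ, x = a ^ i * b ^ j}
      one_mem' := ⟨0, 0, by simp⟩
      mul_mem' := by
        rintro _ _ ⟨i, j, rfl⟩ ⟨i', j', rfl⟩
        refine ⟨i + i', j + j', ?_⟩
        have := ((show Commute a b from hab).zpow_zpow i' j).eq
        rw [zpow_add, zpow_add, mul_assoc, ← mul_assoc (b ^ j), ← this]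
        group
      inv_mem' := by
        rintro _ ⟨i, j, rfl⟩
        refine ⟨-i, -j, ?_⟩
        rw [zpow_neg, zpow_neg, ← mul_inv_rev, ((show Commute a b from hab).zpow_zpow i j).eq] }
  exact (sup_le (zpowers_le.2 ⟨1, 0, by simp⟩) (zpowers_le.2 ⟨0, 1, by simp⟩) :
    zpowers a ⊔ zpowers b ≤ S) hx

omit [Finite G] in
/-- Conjugates of fixed-point groups. -/
theorem inf_centralizer_le_of_conj {V : Subgroup G} {x y z u : G}
    (hz : z ∈ normalizer (V : Set G)) (hzu : z * u = u * z) (hxy : z * x * z⁻¹ = y)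
    (h : V ⊓ centralizer {x} ≤ centralizer {u}) : V ⊓ centralizer {y} ≤ centralizer {u} := by
  rintro w ⟨hw, hwy⟩
  have hwy' := mem_centralizer_singleton_iff.1 hwy
  rw [← hxy] at hwy'
  have h1 : z⁻¹ * w * z ∈ V ⊓ centralizer {x} := by
    refine ⟨(mem_normalizer_iff''.1 hz w).1 hw, mem_centralizer_singleton_iff.2 ?_⟩
    calc z⁻¹ * w * z * x = z⁻¹ * (w * (z * x * z⁻¹)) * z := by group
      _ = z⁻¹ * (z * x * z⁻¹ * w) * z := by rw [hwy']
      _ = x * (z⁻¹ * w * z) := by group
  have h2 := mem_centralizer_singleton_iff.1 (h h1)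
  have hzu' : z * u * z⁻¹ = u := mul_inv_eq_iff_eq_mul.2 hzu
  refine mem_centralizer_singleton_iff.2 ?_
  calc w * u = w * (z * u * z⁻¹) := by rw [hzu']
    _ = z * (z⁻¹ * w * z * u) * z⁻¹ := by group
    _ = z * (u * (z⁻¹ * w * z)) * z⁻¹ := by rw [h2]
    _ = z * u * z⁻¹ * w := by group
    _ = u * w := by rw [hzu']

variable {σ : Finset ℕ} {r : ℕ} {V L : Subgroup G}

/-- An element fixed-point-free on `V` centralising the centre line of a noncyclic core. -/
theorem Cfg.exists_fpf_centralizing (c : Cfg σ r V L) {p t : ℕ} (hp : p ∈ σ) (ht : t ∈ σ)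
    (hpt : p ≠ t) (hpr : p ≠ r) (htr : t ≠ r) (ht2 : t ≠ 2) (hsp : HasSq p L)
    (hTs : HasSq t (coreIn t L)) {u : G} (huT : u ∈ coreIn t L) (hu : orderOf u = t)
    (huc : ∀ y ∈ coreIn t L, u * y = y * u)
    (huniq : ∀ z ∈ coreIn t L, z ^ t = 1 → (∀ y ∈ coreIn t L, z * y = y * z) → z ∈ zpowers u)
    (hLu : L ≤ normalizer (zpowers u : Set G)) :
    ∃ e, e ∈ L ∧ orderOf e = p ∧ e * u = u * e ∧ V ⊓ centralizer {e} = ⊥ := by
  have hp' := c.prime p hp
  have ht' := c.prime t ht
  have := Fact.mk ht'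
  set T := coreIn t L
  have hTp := isPGroup_coreIn t L
  have hcc : ∀ {w : G}, w ∈ zpowers u → ∀ y ∈ T, w * y = y * w := fun hw y hy =>
    (commute_of_mem_zpowers (huc y hy).symm hw).symm
  let S : Subgroup G :=
    { carrier := {x | IsNearCentre t T u x}
      one_mem' := ⟨one_mem _, one_pow _, fun y _ => by
        rw [commutatorElement_one_left]; exact one_mem _⟩
      mul_mem' := by
        intro a b ha hb
        refine ⟨mul_mem ha.1 hb.1, ?_, fun y hy => ?_⟩
        · have hc : (⁅(⟨b, hb.1⟩ : T), (⟨a, ha.1⟩ : T)⁆) ∈ center T :=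
            mem_center_iff.2 fun w => Subtype.ext ((hcc (hb.2.2 a ha.1) w w.2).symm)
          have hco : (⁅(⟨b, hb.1⟩ : T), (⟨a, ha.1⟩ : T)⁆) ^ t = 1 := by
            refine Subtype.ext ?_
            obtain ⟨n, hn⟩ := hb.2.2 a ha.1
            simp only [SubmonoidClass.coe_pow, commutatorElement_def, Subgroup.coe_mul,
              Subgroup.coe_inv, OneMemClass.coe_one]
            rw [← commutatorElement_def, ← hn]
            simp only
            rw [← zpow_natCast, ← zpow_mul, mul_comm, zpow_mul, zpow_natCast, ← hu,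
              pow_orderOf_eq_one, one_zpow]
          have h := congrArg Subtype.val (PGroup.mul_pow_prime ht' ht2 hc hco)
          simp only [SubmonoidClass.coe_pow, Subgroup.coe_mul] at h
          rw [h, ha.2.1, hb.2.1, one_mul]
        · have h1 : ⁅a * b, y⁆ = ⁅b, y⁆ * ⁅a, y⁆ := by
            rw [commutatorElement_mul_left_eq_conj_mul, ← hcc (hb.2.2 y hy) a ha.1,
              mul_inv_cancel_right]
          rw [h1]
          exact mul_mem (hb.2.2 y hy) (ha.2.2 y hy)
      inv_mem' := by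
        intro a ha
        refine ⟨inv_mem ha.1, by rw [inv_pow, ha.2.1, inv_one], fun y hy => ?_⟩
        have h2 : ⁅a⁻¹, y⁆ = ⁅a, y⁆⁻¹ := by
          rw [show ⁅a⁻¹, y⁆ = a⁻¹ * ⁅a, y⁆⁻¹ * a by group]
          rw [mul_assoc, hcc (inv_mem (ha.2.2 y hy)) a ha.1, inv_mul_cancel_left]
        rw [h2]
        exact inv_mem (ha.2.2 y hy) }
  have hST : S ≤ T := fun x hx => hx.1
  have huS : u ∈ S := ⟨huT, hu ▸ pow_orderOf_eq_one u, fun y hy => by
    rw [commutatorElement_eq_one_iff_mul_comm.2 (huc y hy)]; exact one_mem _⟩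
  have hSn : L ≤ normalizer (S : Set G) := by
    intro g hg
    refine mem_normalizer_fintype fun x hx => ?_
    have hgT := le_normalizer_coreIn t L hg
    refine ⟨(mem_normalizer_iff.1 hgT x).1 hx.1, by rw [conj_pow, hx.2.1, mul_one, mul_inv_cancel],
      fun y hy => ?_⟩
    have hy' : g⁻¹ * y * g ∈ T := (mem_normalizer_iff''.1 hgT y).1 hy
    rw [show ⁅g * x * g⁻¹, y⁆ = g * ⁅x, g⁻¹ * y * g⁆ * g⁻¹ by group]
    exact (mem_normalizer_iff.1 (hLu hg) _).1 (hx.2.2 _ hy')
  obtain ⟨x₀, hx₀, hx₀u⟩ := exists_nearCentre ht' ht2 hTp hTs huT hu huc huniq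
  obtain ⟨E, hEL, hE⟩ := hsp.exists_isSq
  have := hE.elem.1
  obtain ⟨e, he, he1, hnle⟩ : ∃ e ∈ E, e ≠ 1 ∧ ¬ S ⊓ centralizer {e} ≤ zpowers u := by
    by_contra h
    push Not at h
    have heq := Coprime.eq_of_forall_centralizer_le (hE.not_cyclic hp') (hEL.trans hSn)
      (coprime_of_isPGroup hp' ht' hpt hE.isPGroup (hTp.to_le hST)) (zpowers_le.2 huS) h
    exact hx₀u (heq.symm ▸ (hx₀ : x₀ ∈ S))
  obtain ⟨x, hx, hxu⟩ := SetLike.not_le_iff_exists.1 hnle
  have heo := hE.orderOf_eq hp' he he1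
  have hx1 : x ≠ 1 := fun h => hxu (by rw [h]; exact one_mem _)
  have hxo : orderOf x = t := orderOf_eq_prime hx.1.2.1 hx1
  have hxe := mem_centralizer_singleton_iff.1 hx.2
  have hux : u * x = x * u := huc x hx.1.1
  have hA := isSq_sup ht' hu hxo hux hxu
  have hAL : zpowers u ⊔ zpowers x ≤ L :=
    sup_le (zpowers_le.2 (coreIn_le t L huT)) (zpowers_le.2 (coreIn_le t L hx.1.1))
  have heu : e * u = u * e := by
    by_contra hmove
    have hxV : x ∈ L := coreIn_le t L hx.1.1
    have hWe : V ⊓ centralizer {x} ⊓ centralizer {e} = ⊥ :=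
      c.eq_bot_pair ht hp hpt.symm htr hpr hxo heo hxe
    have hue : zpowers u ⊓ centralizer {e} = ⊥ := by
      refine (eq_bot_iff_forall _).2 fun z hz => ?_
      by_contra hz1
      refine hmove (commute_of_mem_zpowers (mem_centralizer_singleton_iff.1 hz.2).symm ?_)
      rw [zpowers_eq_of_mem ht' hu hz.1 hz1]
      exact mem_zpowers u
    have h1 := centralizes_of_moved ht' hp' (c.prime r c.mem) hpt hpr htr
      (isPGroup_zpowers ht' hu) (c.hV.to_le inf_le_left) heo
      (le_normalizer_inf_centralizer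
        ((zpowers_le.2 (coreIn_le t L huT)).trans c.hLV)
        (zpowers_le.2 (mem_centralizer_singleton_iff.2 hux)))
      (le_normalizer_inf_centralizer ((zpowers_le.2 (hEL he)).trans c.hLV)
        (zpowers_le.2 (mem_centralizer_singleton_iff.2 hxe.symm)) (mem_zpowers e))
      (hLu (hEL he)) hue hWe
    have hWx : V ⊓ centralizer {x} ≤ centralizer {u} := by
      rw [centralizer_singleton_eq u]
      exact le_centralizer_iff.1 h1
    have hall : ∀ y ∈ zpowers u ⊔ zpowers x, y ≠ 1 →
        V ⊓ centralizer {y} ≤ V ⊓ centralizer {u} := by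
      intro y hy hy1
      refine le_inf inf_le_left ?_
      by_cases hyu : y ∈ zpowers u
      · rw [centralizer_eq_of_mem ht' hu hyu hy1]
        exact inf_le_right
      · have hyo := hA.orderOf_eq ht' hy hy1
        have hu1 : u ≠ 1 := fun h => ht'.ne_one (by rw [← hu, h, orderOf_one])
        have hxA : x ∈ zpowers u ⊔ zpowers y := hA.le_of_two ht' (mem_sup_left (mem_zpowers u)) hy hu1
          hyu (mem_sup_left (mem_zpowers u)) (mem_sup_right (mem_zpowers y))
          (mem_sup_right (mem_zpowers x))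
        obtain ⟨i, j, hij⟩ := exists_zpow_mul (hA.comm (mem_sup_left (mem_zpowers u)) hy) hxA
        have hyj : y ^ j = x * u ^ (-i) := by
          rw [← ((show Commute u x from hux).zpow_left (-i)).eq, hij]
          group
        have hyj1 : y ^ j ≠ 1 := by
          intro h
          refine hxu ?_
          rw [hij, h, mul_one]
          exact zpow_mem (mem_zpowers u) i
        obtain ⟨z, hzT, hz⟩ := exists_conj_mul ht' hu huc huniq hx.1 hxu (-i)
        rw [← centralizer_eq_of_mem ht' hyo (zpow_mem (mem_zpowers y) j) hyj1, hyj]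
        exact inf_centralizer_le_of_conj (c.hLV (coreIn_le t L hzT)) (huc z hzT).symm hz hWx
    have := hA.elem.1
    have heq := Coprime.eq_of_forall_centralizer_le (hA.not_cyclic ht') (hAL.trans c.hLV)
      (coprime_of_isPGroup ht' (c.prime r c.mem) htr hA.isPGroup c.hV) inf_le_left hall
    exact c.not_le_centralizer (coreIn_le t L huT)
      (fun h => ht'.ne_one (by rw [← hu, h, orderOf_one])) (heq.symm.le.trans inf_le_right)
  exact ⟨e, hEL he, heo, heu, c.fpf_of_sq hp ht hpt hpr htr heo hA hAL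
    (sup_le (zpowers_le.2 (mem_centralizer_singleton_iff.2 heu.symm))
      (zpowers_le.2 (mem_centralizer_singleton_iff.2 hxe)))⟩

/-- Three primes acting on one `r`-group: impossible. -/
theorem Cfg.one_prime_false (c : Cfg σ r V L) {p q t : ℕ} (hp : p ∈ σ) (hq : q ∈ σ) (ht : t ∈ σ)
    (hpq : p ≠ q) (hpt : p ≠ t) (hqt : q ≠ t) (hpr : p ≠ r) (hqr : q ≠ r) (htr : t ≠ r)
    (hsp : HasSq p L) (hsq : HasSq q L) (hst : HasSq t L)
    (hL : ∀ d : ℕ, d.Prime → d ∣ Nat.card L → d = p ∨ d = q ∨ d = t) : False := by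
  have := c.sol
  have hmem : ∀ d : ℕ, d.Prime → ∀ B ≤ L, IsPGroup d B → B ≠ ⊥ → d = p ∨ d = q ∨ d = t := by
    intro d hd B hBL hB hne
    obtain ⟨z, hz, hzo⟩ := exists_order_of_ne_bot hd hB le_rfl hne
    exact hL d hd (hzo ▸ L.orderOf_dvd_natCard (hBL hz))
  have key : ∀ d : ℕ, d.Prime → ∀ B ≤ L, L ≤ normalizer (B : Set G) →
      IsElementaryAbelian d B → ¬ HasSq d B := by
    intro d hd B hBL hBn hB hs
    have hne : B ≠ ⊥ := by
      rintro rfl
      obtain ⟨E, hE, hEs⟩ := hs.exists_isSq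
      obtain ⟨e, he, he1⟩ := hEs.exists_not_mem hd (one_mem E)
      exact he1 (by rw [mem_bot.1 (hE he)]; exact one_mem _)
    rcases hmem d hd B hBL (PGroup.isPGroup_of_elementaryAbelian hB) hne with rfl | rfl | rfl
    · exact c.no_sq_normal hq ht hp hqt hpq.symm hpt.symm hqr htr hpr hsq hst hB hBL hBn hs
    · exact c.no_sq_normal hp ht hq hpt hpq hqt.symm hpr htr hqr hsp hst hB hBL hBn hs
    · exact c.no_sq_normal hp hq ht hpq hpt hqt hpr hqr htr hsp hsq hB hBL hBn hs
  have hcase : ∀ d : ℕ, d.Prime → ∀ (x y : ℕ), x ∈ σ → y ∈ σ → d ∈ σ → x ≠ y → x ≠ d → y ≠ d →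
      x ≠ r → y ≠ r → d ≠ r → HasSq x L → HasSq y L → IsCyclic (coreIn d L) := by
    intro d hd x y hx hy hd' hxy hxd hyd hxr hyr hdr hsx hsy
    by_contra hncyc
    have := Fact.mk hd
    have hne : coreIn d L ≠ ⊥ := fun h => hncyc (by rw [h]; infer_instance)
    obtain ⟨u, huT, hu, huc, huniq, hLu⟩ := core_data hd hne (key d hd)
    by_cases hd2 : d = 2
    · refine c.no_central hx hy hd' hxy hxd hyd hsx hsy hu
        fun g hg => mem_centralizer_singleton_iff.2 ?_
      exact commute_of_coprime_sub_one hd hu (conj_mem_zpowers_of_le_normalizer hLu hg) (by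
        subst hd2; exact Nat.coprime_one_right _)
    · rcases hasSq_or_unique hd (isPGroup_coreIn d L) with hs | hun
      · obtain ⟨e, heL, heo, heu, hVe⟩ :=
          c.exists_fpf_centralizing hx hd' hxd hxr hdr hd2 hsx hs huT hu huc huniq hLu
        obtain ⟨f, hfL, hfo, hfu, hVf⟩ :=
          c.exists_fpf_centralizing hy hd' hyd hyr hdr hd2 hsy hs huT hu huc huniq hLu
        exact c.not_two_fpf hx hy hd' hxy hxd hyd hxr hyr hu heo hfo heL hfL heu hfu hVe hVf
      · refine hncyc ?_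
        have := PGroup.cyclic_or_quaternion_of_unique (G := coreIn d L) (isPGroup_coreIn d L)
        suffices huq : ∀ H K : Subgroup (coreIn d L), Nat.card H = d → Nat.card K = d → H = K from
          (this huq).resolve_right fun h => hd2 h.1
        intro H K hH hK
        have hgen : ∀ H K : Subgroup (coreIn d L), Nat.card H = d → Nat.card K = d → H ≤ K := by
          intro H K hH hK a ha
          by_cases ha1 : a = 1
          · rw [ha1]; exact one_mem _
          have hao : orderOf a = d := by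
            rcases (Nat.dvd_prime hd).1 (hH ▸ H.orderOf_dvd_natCard ha) with h | h
            · exact absurd (orderOf_eq_one_iff.1 h) ha1
            · exact h
          obtain ⟨b, hb⟩ := exists_prime_orderOf_dvd_card' (G := K) d (dvd_of_eq hK.symm)
          rw [← orderOf_coe] at hb
          obtain ⟨n, hn⟩ := hun (b : coreIn d L) (b : coreIn d L).2 a a.2
            (by rw [orderOf_coe, hb]) (by rw [orderOf_coe, hao])
          have : a = (b : coreIn d L) ^ n := Subtype.ext (by simpa using hn.symm)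
          rw [this]
          exact zpow_mem b.2 n
        exact le_antisymm (hgen H K hH hK) (hgen K H hK hH)
  have hcyc : ∀ d : ℕ, d.Prime → IsCyclic (Cfsg.pCore d L) := by
    intro d hd
    have e := (Cfsg.pCore d L).equivMapOfInjective L.subtype L.subtype_injective
    suffices IsCyclic (coreIn d L) from
      have : IsCyclic ((Cfsg.pCore d L).map L.subtype) := this
      isCyclic_of_surjective e.symm e.symm.surjective
    by_cases hne : coreIn d L = ⊥
    · rw [hne]; infer_instance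
    rcases hmem d hd _ (coreIn_le d L) (isPGroup_coreIn d L) hne with rfl | rfl | rfl
    · exact hcase d hd q t hq ht hp hqt hpq.symm hpt.symm hqr htr hpr hsq hst
    · exact hcase d hd p t hp ht hq hpt hpq hqt.symm hpr htr hqr hsp hst
    · exact hcase d hd p q hp hq ht hpq hpt hqt hpr hqr htr hsp hsq
  have htop : ∀ m : ℕ, (m = p ∨ m = q ∨ m = t) → p ≤ m → q ≤ m → t ≤ m → False := by
    intro m hm h1 h2 h3
    have hm' : m.Prime ∧ HasSq m L := by
      rcases hm with rfl | rfl | rfl
      exacts [⟨c.prime _ hp, hsp⟩, ⟨c.prime _ hq, hsq⟩, ⟨c.prime _ ht, hst⟩]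
    refine not_forall_cyclic_pCore (X := L) hm'.1 (fun d hd h => ?_) ?_ hcyc
    · rcases hL d hd h with rfl | rfl | rfl <;> assumption
    · obtain ⟨E, hEL, hE⟩ := hm'.2.exists_isSq
      exact ⟨E.subgroupOf L, le_top, PGroup.isElementaryAbelian_comap hE.elem L.subtype_injective,
        by rw [Nat.card_congr (subgroupOfEquivOfLe hEL).toEquiv, hE.card]⟩
  rcases le_total p q with h1 | h1 <;> rcases le_total q t with h2 | h2 <;>
    rcases le_total p t with h3 | h3
  all_goals first
    | exact htop p (Or.inl rfl) le_rfl (by omega) (by omega)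
    | exact htop q (Or.inr (Or.inl rfl)) (by omega) le_rfl (by omega)
    | exact htop t (Or.inr (Or.inr rfl)) (by omega) (by omega) le_rfl

end Cfsg.Agent.Joined
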