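import Cfsg.Agent.Lib.Joined.Pair

/-!
# Four pairwise joined primes without a triangle of orders force nonsolvability

* `exists_hall_finset`: Hall subgroups for a finite set of primes;
* `hasSq_of_joined`: in a solvable counterexample every prime of `σ` has rank at least two;
* `not_isSolvable_of_joined`: the criterion.
-/

set_option autoImplicit false

namespace Cfsg.Agent.Joined

open Subgroup

variable {G : Type*} [Group G] [Finite G]

/-- Hall subgroups for a finite set of primes. -/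
theorem exists_hall_finset (s : Finset ℕ) (hs : ∀ d ∈ s, d.Prime) (L : Subgroup G)
    [Group.IsSolvable L] : ∃ H ≤ L, (∀ d : ℕ, d.Prime → d ∣ Nat.card H → d ∈ s) ∧
      ∀ K ≤ L, (∀ d : ℕ, d.Prime → d ∣ Nat.card K → d ∈ s) →
        ∃ x ∈ L, ∀ k ∈ K, x * k * x⁻¹ ∈ H := by
  set N := Nat.card L with hN
  have hN0 : N ≠ 0 := Nat.card_pos.ne'
  set m := ∏ d ∈ s, d ^ N.factorization d with hm
  obtain ⟨n, hn⟩ : m ∣ N := by
    refine Finset.prod_dvd_of_isRelPrime (fun a ha b hb hab => ?_) fun a _ => Nat.ordProj_dvd N a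
    show IsRelPrime _ _
    rw [← Nat.coprime_iff_isRelPrime]
    exact ((Nat.coprime_primes (hs a ha) (hs b hb)).2 hab).pow _ _
  have hmp : ∀ d : ℕ, d.Prime → d ∣ m → d ∈ s := fun d hd h => by
    obtain ⟨a, ha, hda⟩ := (hd.prime.dvd_finsetProd_iff _).1 h
    rwa [(Nat.prime_dvd_prime_iff_eq hd (hs a ha)).1 (hd.dvd_of_dvd_pow hda)]
  have hnn : ∀ d : ℕ, d.Prime → d ∣ n → d ∉ s := by
    intro d hd hdn hds
    refine Nat.pow_succ_factorization_not_dvd hN0 hd ?_
    rw [pow_succ]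
    conv_rhs => rw [hn]
    exact mul_dvd_mul (hm ▸ Finset.dvd_prod_of_mem _ hds) hdn
  have hmn : m.Coprime n := Nat.coprime_of_dvd fun d hd h1 h2 => hnn d hd h2 (hmp d hd h1)
  obtain ⟨H, hH⟩ := Solvable.exists_hall (G := L) hn hmn
  refine ⟨H.map L.subtype, map_subtype_le H, fun d hd h => hmp d hd ?_, fun K hKL hK => ?_⟩
  · rwa [card_map_of_injective L.subtype_injective, hH] at h
  · have hKc : (Nat.card (K.subgroupOf L)).Coprime n :=
      Nat.coprime_of_dvd fun d hd h1 h2 => hnn d hd h2 (hK d hd (by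
        rwa [Nat.card_congr (subgroupOfEquivOfLe hKL).toEquiv] at h1))
    obtain ⟨g, hg⟩ := Solvable.exists_le_conj_hall hn hmn hH hKc
    refine ⟨(g⁻¹ : L), (g⁻¹).2, fun k hk => ?_⟩
    have h1 := Coprime.mem_conj_smul_iff.1 (hg (show (⟨k, hKL hk⟩ : L) ∈ K.subgroupOf L from hk))
    exact ⟨_, h1, by simp⟩

/-- In a solvable group three elements of distinct prime orders cannot avoid commuting inside the
centralizer of a fourth one. -/
theorem three_false {σ : Finset ℕ} (hσ : ∀ d ∈ σ, d.Prime) (no3 : NoTriple σ G)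
    [Group.IsSolvable G] {a : G} {p : ℕ} (hp : p ∈ σ) (ha : orderOf a = p) {T : Finset ℕ}
    (hT : ∀ d ∈ T, d ∈ σ ∧ d ≠ p) (hT3 : T.card = 3)
    (hel : ∀ d ∈ T, ∃ g ∈ centralizer ({a} : Set G), orderOf g = d) : False := by
  set Z := centralizer ({a} : Set G)
  have hTp : ∀ d ∈ T, d.Prime := fun d hd => hσ d (hT d hd).1
  have hel' : ∀ (S : Finset ℕ) (H : Subgroup G), (∀ d ∈ S, d.Prime) →
      (∀ K ≤ Z, (∀ d : ℕ, d.Prime → d ∣ Nat.card K → d ∈ S) →
        ∃ x ∈ Z, ∀ k ∈ K, x * k * x⁻¹ ∈ H) →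
      ∀ d ∈ S, d ∈ T → ∃ g ∈ H, orderOf g = d := by
    intro S H hS hH d hdS hdT
    obtain ⟨g, hgZ, hg⟩ := hel d hdT
    obtain ⟨x, -, hx⟩ := hH (zpowers g) (zpowers_le.2 hgZ) fun e he h => by
      rw [Nat.card_zpowers, hg, Nat.prime_dvd_prime_iff_eq he (hS d hdS)] at h
      exact h ▸ hdS
    exact ⟨_, hx g (mem_zpowers g), by rw [orderOf_conj', hg]⟩
  obtain ⟨H, hHZ, hH, hHK⟩ := exists_hall_finset T hTp Z
  have hne : H ≠ ⊥ := by
    rintro rfl
    obtain ⟨d, hd⟩ := Finset.card_pos.1 (by omega : 0 < T.card)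
    obtain ⟨g, hg, hgo⟩ := hel' T ⊥ hTp hHK d hd hd
    rw [mem_bot] at hg
    exact (hTp d hd).ne_one (by rw [← hgo, hg, orderOf_one])
  obtain ⟨d, B, hd, hBH, hBne, hHB, hB⟩ := exists_elementary_of_solvable hne
  have hBp := PGroup.isPGroup_of_elementaryAbelian hB
  obtain ⟨b, hb, hbo⟩ := exists_order_of_ne_bot hd hBp le_rfl hBne
  have hdT : d ∈ T := hH d hd (hbo ▸ H.orderOf_dvd_natCard (hBH hb))
  obtain ⟨K, hKH, hK, hKK⟩ := exists_hall_finset (T.erase d)
    (fun e he => hTp e (Finset.mem_of_mem_erase he)) H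
  have hnocomm : ∀ x ∈ Z, ∀ y ∈ Z, orderOf x ∈ T → orderOf y ∈ T → orderOf x ≠ orderOf y →
      x * y ≠ y * x := fun x hx y hy hxT hyT hxy hc =>
    no3 p hp _ (hT _ hxT).1 _ (hT _ hyT).1 (hT _ hxT).2.symm hxy (hT _ hyT).2.symm a x y ha rfl rfl
      (mem_centralizer_singleton_iff.1 hx).symm hc (mem_centralizer_singleton_iff.1 hy).symm
  have helK : ∀ e ∈ T.erase d, ∃ g ∈ K, orderOf g = e := by
    intro e he
    obtain ⟨g, hg, hgo⟩ := hel' T H hTp hHK e (Finset.mem_of_mem_erase he)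
      (Finset.mem_of_mem_erase he)
    obtain ⟨x, -, hx⟩ := hKK (zpowers g) (zpowers_le.2 hg) fun f hf h => by
      rw [Nat.card_zpowers, hgo,
        Nat.prime_dvd_prime_iff_eq hf (hTp e (Finset.mem_of_mem_erase he))] at h
      exact h ▸ he
    exact ⟨_, hx g (mem_zpowers g), by rw [orderOf_conj', hgo]⟩
  have hcard : (T.erase d).card = 2 := by rw [Finset.card_erase_of_mem hdT, hT3]
  obtain ⟨e₀, he₀⟩ := Finset.card_pos.1 (by omega : 0 < (T.erase d).card)
  obtain ⟨g₀, hg₀, hg₀o⟩ := helK e₀ he₀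
  have hKne : K ≠ ⊥ := by
    rintro rfl
    rw [mem_bot] at hg₀
    exact (hTp e₀ (Finset.mem_of_mem_erase he₀)).ne_one (by rw [← hg₀o, hg₀, orderOf_one])
  obtain ⟨e, D, he, hDK, hDne, hKD, hD⟩ := exists_elementary_of_solvable hKne
  have hDp := PGroup.isPGroup_of_elementaryAbelian hD
  obtain ⟨x, hx, hxo⟩ := exists_order_of_ne_bot he hDp le_rfl hDne
  have heT : e ∈ T.erase d := hK e he (hxo ▸ K.orderOf_dvd_natCard (hDK hx))
  obtain ⟨f, hf, hfe⟩ := Finset.exists_mem_ne (by omega : 1 < (T.erase d).card) e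
  obtain ⟨g, hg, hgo⟩ := helK f hf
  have hed := Finset.ne_of_mem_erase heT
  have hfd := Finset.ne_of_mem_erase hf
  have hfT := Finset.mem_of_mem_erase hf
  have heT' := Finset.mem_of_mem_erase heT
  have hDZ : D ≤ Z := hDK.trans (hKH.trans hHZ)
  have hgZ : g ∈ Z := hHZ (hKH hg)
  have fpf : ∀ (W : Subgroup G) (w : ℕ), W ≤ Z → IsPGroup w W → w ∈ T → w ≠ f →
      W ⊓ centralizer {g} = ⊥ := by
    intro W w hWZ hW hw hwf
    by_contra hne
    obtain ⟨z, hz, hzo⟩ := exists_order_of_ne_bot (hTp w hw) hW inf_le_left hne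
    exact hnocomm z (hWZ hz.1) g hgZ (hzo ▸ hw) (hgo ▸ hfT) (by rw [hzo, hgo]; exact hwf)
      (mem_centralizer_singleton_iff.1 hz.2)
  have h := centralizes_of_moved he (hTp f hfT) hd hfe hfd hed hDp hBp hgo
    ((hDK.trans hKH).trans hHB) (hHB (hKH hg)) (hKD hg) (fpf D e hDZ hDp heT' hfe.symm)
    (fpf B d (hBH.trans hHZ) hBp hdT hfd.symm)
  exact hnocomm x (hDZ hx) b (hHZ (hBH hb)) (hxo ▸ heT') (hbo ▸ hdT) (by rw [hxo, hbo]; exact hed)
    (mem_centralizer_iff.1 (h hx) b hb).symm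

/-- Every prime of `σ` has rank at least two. -/
theorem hasSq_of_joined {σ : Finset ℕ} (hσ : ∀ d ∈ σ, d.Prime) (hσ4 : σ.card = 4)
    (no3 : NoTriple σ G) [Group.IsSolvable G]
    (h2 : ∀ p ∈ σ, ∀ q ∈ σ, p ≠ q → ∃ g : G, orderOf g = p * q) {p : ℕ} (hp : p ∈ σ) :
    HasSq p (⊤ : Subgroup G) := by
  have hp' := hσ p hp
  have := Fact.mk hp'
  obtain ⟨P⟩ := (inferInstance : Nonempty (Sylow p G))
  rcases hasSq_or_unique hp' P.2 with h | h
  · exact h.mono le_top
  exfalso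
  have conj : ∀ x : G, orderOf x = p → ∃ z : G, z * x * z⁻¹ ∈ (P : Subgroup G) := by
    intro x hx
    obtain ⟨Q, hQ⟩ := (isPGroup_zpowers hp' hx).exists_le_sylow
    obtain ⟨z, hz⟩ := MulAction.exists_smul_eq G Q P
    refine ⟨z, ?_⟩
    rw [← hz, Sylow.coe_subgroup_smul]
    exact ⟨x, hQ (mem_zpowers x), rfl⟩
  have hex : ∀ q ∈ σ.erase p, ∃ x y : G, orderOf x = p ∧ orderOf y = q ∧ x * y = y * x := by
    intro q hq
    obtain ⟨g, hg⟩ := h2 p hp q (Finset.mem_of_mem_erase hq) (Finset.ne_of_mem_erase hq).symm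
    refine ⟨g ^ q, g ^ p, ?_, ?_, ((Commute.refl g).pow_pow q p).eq⟩
    · rw [orderOf_pow_of_dvd (hσ q (Finset.mem_of_mem_erase hq)).ne_zero (hg ▸ dvd_mul_left q p),
        hg, Nat.mul_div_cancel _ (hσ q (Finset.mem_of_mem_erase hq)).pos]
    · rw [orderOf_pow_of_dvd hp'.ne_zero (hg ▸ dvd_mul_right p q), hg,
        Nat.mul_div_cancel_left _ hp'.pos]
  have hcard : (σ.erase p).card = 3 := by rw [Finset.card_erase_of_mem hp, hσ4]
  obtain ⟨q₀, hq₀⟩ := Finset.card_pos.1 (by omega : 0 < (σ.erase p).card)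
  obtain ⟨x₀, -, hx₀, -, -⟩ := hex q₀ hq₀
  obtain ⟨z₀, hz₀⟩ := conj x₀ hx₀
  refine three_false hσ no3 hp (a := z₀ * x₀ * z₀⁻¹) (by rw [orderOf_conj', hx₀])
    (T := σ.erase p) (fun d hd => ⟨Finset.mem_of_mem_erase hd, Finset.ne_of_mem_erase hd⟩) hcard
    fun q hq => ?_
  obtain ⟨x, y, hx, hy, hxy⟩ := hex q hq
  obtain ⟨z, hz⟩ := conj x hx
  refine ⟨z * y * z⁻¹, mem_centralizer_singleton_iff.2 (commute_of_mem_zpowers ?_
    (h _ hz _ hz₀ (by rw [orderOf_conj', hx]) (by rw [orderOf_conj', hx₀]))),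
    by rw [orderOf_conj', hy]⟩
  calc z * y * z⁻¹ * (z * x * z⁻¹) = z * (y * x) * z⁻¹ := by group
    _ = z * (x * y) * z⁻¹ := by rw [hxy]
    _ = z * x * z⁻¹ * (z * y * z⁻¹) := by group

/-- The criterion for a group all of whose prime divisors lie in `σ`. -/
theorem false_of_joined {σ : Finset ℕ} (hσ : ∀ d ∈ σ, d.Prime) (hσ4 : σ.card = 4)
    (no3 : NoTriple σ G) [Group.IsSolvable G]
    (hG : ∀ d : ℕ, d.Prime → d ∣ Nat.card G → d ∈ σ)
    (h2 : ∀ p ∈ σ, ∀ q ∈ σ, p ≠ q → ∃ g : G, orderOf g = p * q) : False := by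
  have hsq : ∀ p ∈ σ, HasSq p (⊤ : Subgroup G) := fun p hp => hasSq_of_joined hσ hσ4 no3 h2 hp
  classical
  set C : Finset ℕ := σ.filter fun d => Cfsg.pCore d G ≠ ⊥
  have hCmem : ∀ d : ℕ, d.Prime → Cfsg.pCore d G ≠ ⊥ → d ∈ C := by
    intro d hd hne
    obtain ⟨z, -, hz⟩ := exists_order_of_ne_bot hd (Components.isPGroup_pCore' d) le_rfl hne
    exact Finset.mem_filter.2 ⟨hG d hd (hz ▸ orderOf_dvd_natCard z), hne⟩
  have hF : ∀ X : Subgroup G, (∀ d ∈ C, Cfsg.pCore d G ≤ X) → Cfsg.fittingSubgroup G ≤ X := by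
    intro X hX
    rw [Components.fittingSubgroup_eq_iSup_pCore]
    refine iSup_le fun d => ?_
    by_cases hd : Cfsg.pCore (d : ℕ) G = ⊥
    · rw [hd]; exact bot_le
    · exact hX _ (hCmem d (Nat.prime_of_mem_primeFactors d.2) hd)
  have hcomm : ∀ d ∈ C, ∀ e ∈ C, d ≠ e → ∀ x ∈ Cfsg.pCore d G, ∀ y ∈ Cfsg.pCore e G,
      x * y = y * x := by
    intro d hd e he hde x hx y hy
    have hd' := hσ d (Finset.mem_filter.1 hd).1
    have he' := hσ e (Finset.mem_filter.1 he).1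
    exact Subgroup.commute_of_normal_of_disjoint _ _ (Components.pCore_normal' d)
      (Components.pCore_normal' e) (IsPGroup.disjoint_of_ne (hp₁ := Fact.mk hd')
        (hp₂ := Fact.mk he') d e hde _ _ (Components.isPGroup_pCore' d)
        (Components.isPGroup_pCore' e)) x y hx hy
  have hC2 : C.card ≤ 2 := by
    by_contra h
    obtain ⟨p, q, r, hp, hq, hr, hpq, hpr, hqr⟩ := Finset.two_lt_card_iff.1 (by omega : 2 < C.card)
    obtain ⟨x, hx, hxo⟩ := exists_order_of_ne_bot (hσ p (Finset.mem_filter.1 hp).1)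
      (Components.isPGroup_pCore' p) le_rfl (Finset.mem_filter.1 hp).2
    obtain ⟨y, hy, hyo⟩ := exists_order_of_ne_bot (hσ q (Finset.mem_filter.1 hq).1)
      (Components.isPGroup_pCore' q) le_rfl (Finset.mem_filter.1 hq).2
    obtain ⟨z, hz, hzo⟩ := exists_order_of_ne_bot (hσ r (Finset.mem_filter.1 hr).1)
      (Components.isPGroup_pCore' r) le_rfl (Finset.mem_filter.1 hr).2
    exact no3 p (Finset.mem_filter.1 hp).1 q (Finset.mem_filter.1 hq).1 r
      (Finset.mem_filter.1 hr).1 hpq hqr hpr x y z hxo hyo hzo (hcomm p hp q hq hpq x hx y hy)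
      (hcomm q hq r hr hqr y hy z hz) (hcomm p hp r hr hpr x hx z hz)
  -- the Hall subgroup for the primes outside `C` and its data
  obtain ⟨L, -, hLp, hLK⟩ := exists_hall_finset (σ \ C) (fun d hd =>
    hσ d (Finset.mem_sdiff.1 hd).1) (⊤ : Subgroup G)
  have hLsq : ∀ d ∈ σ \ C, HasSq d L := by
    intro d hd
    have hd' := hσ d (Finset.mem_sdiff.1 hd).1
    obtain ⟨E, hE, hEs⟩ := (hsq d (Finset.mem_sdiff.1 hd).1).exists_isSq
    obtain ⟨x, -, hx⟩ := hLK E le_top fun e he h => by rw [primes_of_sq hd' hEs he h]; exact hd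
    exact hasSq_conj (hEs.hasSq le_rfl) hx
  have hfaith : ∀ x ∈ L, (∀ d ∈ C, x ∈ centralizer (Cfsg.pCore d G : Set G)) → x = 1 := by
    intro x hxL hx
    have hxc : Cfsg.fittingSubgroup G ≤ centralizer {x} := hF _ fun d hd y hy =>
      mem_centralizer_singleton_iff.2 (mem_centralizer_iff.1 (hx d hd) y hy)
    have hxF : x ∈ Cfsg.fittingSubgroup G := Components.centralizer_fittingSubgroup_le
      (mem_centralizer_iff.2 fun y hy => mem_centralizer_singleton_iff.1 (hxc hy))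
    by_contra hx1
    obtain ⟨d, hd, hdx⟩ := Nat.exists_prime_and_dvd (n := orderOf x)
      fun h => hx1 (orderOf_eq_one_iff.1 h)
    have hdC : d ∉ C := (Finset.mem_sdiff.1 (hLp d hd (hdx.trans (L.orderOf_dvd_natCard hxL)))).2
    have hFd : d ∣ Nat.card (Cfsg.fittingSubgroup G) :=
      hdx.trans ((Cfsg.fittingSubgroup G).orderOf_dvd_natCard hxF)
    have hnil := Components.fittingSubgroup_isNilpotent G
    have := Fact.mk hd
    obtain ⟨P⟩ := (inferInstance : Nonempty (Sylow d (Cfsg.fittingSubgroup G)))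
    have hiff : Group.IsNilpotent (Cfsg.fittingSubgroup G) ↔
        ∀ (p : ℕ), Fact p.Prime → ∀ P : Sylow p (Cfsg.fittingSubgroup G),
          (P : Subgroup (Cfsg.fittingSubgroup G)).Normal :=
      (Group.isNilpotent_of_finite_tfae (G := Cfsg.fittingSubgroup G)).out 0 3
    have hPn : (P : Subgroup (Cfsg.fittingSubgroup G)).Normal := hiff.mp hnil d inferInstance P
    have hPc : (P : Subgroup (Cfsg.fittingSubgroup G)).Characteristic := P.characteristic_of_normal hPn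
    have hFn : (Cfsg.fittingSubgroup G).Normal := sSup_normal _ fun _ h => h.1
    have h1 : (P : Subgroup (Cfsg.fittingSubgroup G)).map (Cfsg.fittingSubgroup G).subtype ≤
        Cfsg.pCore d G :=
      PCore.le_pCore (P.2.map _)
    refine hdC (hCmem d hd fun hbot => ?_)
    rw [hbot, le_bot_iff, map_eq_bot_iff_of_injective _ (Cfsg.fittingSubgroup G).subtype_injective]
      at h1
    exact P.ne_bot_of_dvd_card hFd h1
  have hLsol : Group.IsSolvable L := inferInstance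
  have hnorm : ∀ d, L ≤ normalizer (Cfsg.pCore d G : Set G) := fun d => by
    have := Components.pCore_normal' (G := G) d
    rw [normalizer_eq_top]
    exact le_top
  have hCne : C.card ≠ 0 := by
    intro h
    rw [Finset.card_eq_zero] at h
    have hFb : Cfsg.fittingSubgroup G ≤ ⊥ := hF _ fun d hd => by simp [h] at hd
    have : Nontrivial G := by
      obtain ⟨p, hp⟩ := Finset.card_pos.1 (by omega : 0 < σ.card)
      obtain ⟨E, -, hE⟩ := (hsq p hp).exists_isSq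
      obtain ⟨e, -, he⟩ := hE.exists_not_mem (hσ p hp) (one_mem E)
      exact ⟨⟨e, 1, fun h => he (by rw [h]; exact one_mem _)⟩⟩
    exact Components.fittingSubgroup_ne_bot (le_bot_iff.1 hFb)
  have hCσ : C ⊆ σ := Finset.filter_subset _ _
  have hsd : (σ \ C).card + C.card = 4 := by
    rw [Finset.card_sdiff_add_card_eq_card hCσ, hσ4]
  rcases (by omega : C.card = 1 ∨ C.card = 2) with h1 | h1
  · obtain ⟨r, hr⟩ := Finset.card_eq_one.1 h1
    obtain ⟨p, q, t, hpq, hpt, hqt, hL3⟩ := Finset.card_eq_three.1 (by omega : (σ \ C).card = 3)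
    have hm : ∀ d ∈ σ \ C, d ∈ σ ∧ d ≠ r := fun d hd =>
      ⟨(Finset.mem_sdiff.1 hd).1, fun h => (Finset.mem_sdiff.1 hd).2 (by rw [hr, h]; simp)⟩
    have hp' := hm p (by rw [hL3]; simp)
    have hq' := hm q (by rw [hL3]; simp)
    have ht' := hm t (by rw [hL3]; simp)
    have hrC : r ∈ C := by rw [hr]; simp
    have c : Cfg σ r (Cfsg.pCore r G) L := ⟨hσ, no3, hCσ hrC, Components.isPGroup_pCore' r,
      hnorm r, (eq_bot_iff_forall _).2 fun x hx => hfaith x hx.1 fun d hd => by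
        rw [hr, Finset.mem_singleton] at hd
        subst hd
        exact hx.2, hLsol⟩
    exact c.one_prime_false hp'.1 hq'.1 ht'.1 hpq hpt hqt hp'.2 hq'.2 ht'.2
      (hLsq p (by rw [hL3]; simp)) (hLsq q (by rw [hL3]; simp)) (hLsq t (by rw [hL3]; simp))
      fun d hd h => by
        have := hLp d hd h
        rw [hL3] at this
        simpa using this
  · obtain ⟨r, s, hrs, hC⟩ := Finset.card_eq_two.1 h1
    obtain ⟨p, q, hpq, hL2⟩ := Finset.card_eq_two.1 (by omega : (σ \ C).card = 2)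
    have hm : ∀ d ∈ σ \ C, d ∈ σ ∧ d ≠ r ∧ d ≠ s := fun d hd =>
      ⟨(Finset.mem_sdiff.1 hd).1, fun h => (Finset.mem_sdiff.1 hd).2 (by rw [hC, h]; simp),
        fun h => (Finset.mem_sdiff.1 hd).2 (by rw [hC, h]; simp)⟩
    have hp' := hm p (by rw [hL2]; simp)
    have hq' := hm q (by rw [hL2]; simp)
    have hrC : r ∈ C := by rw [hC]; simp
    have hsC : s ∈ C := by rw [hC]; simp
    refine pair_false hσ no3 hp'.1 hq'.1 (hCσ hrC) (hCσ hsC) hpq hp'.2.1 hp'.2.2 hq'.2.1 hq'.2.2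
      hrs (Components.isPGroup_pCore' r) (Components.isPGroup_pCore' s)
      (Finset.mem_filter.1 hrC).2 (Finset.mem_filter.1 hsC).2 (hcomm r hrC s hsC hrs) (hnorm r)
      (hnorm s) ((eq_bot_iff_forall _).2 fun x hx => hfaith x hx.1.1 fun d hd => ?_)
      (hLsq p (by rw [hL2]; simp)) (hLsq q (by rw [hL2]; simp)) fun d hd h => ?_
    · rw [hC, Finset.mem_insert, Finset.mem_singleton] at hd
      rcases hd with rfl | rfl
      · exact hx.1.2
      · exact hx.2
    · have := hLp d hd h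
      rw [hL2] at this
      simpa using this

/-- Four or more primes, pairwise joined, no three joined in one element: `G` is not solvable. -/
theorem not_isSolvable_of_joined (σ : Finset ℕ) (hσ : 4 ≤ σ.card) (hprime : ∀ p ∈ σ, p.Prime)
    (h2 : ∀ p ∈ σ, ∀ q ∈ σ, p ≠ q → ∃ g : G, orderOf g = p * q)
    (h3 : ∀ p ∈ σ, ∀ q ∈ σ, ∀ r ∈ σ, p ≠ q → q ≠ r → p ≠ r → ∀ g : G, orderOf g ≠ p * q * r) :
    ¬ Group.IsSolvable G := by
  intro hsol
  obtain ⟨τ, hτσ, hτ⟩ := Finset.exists_subset_card_eq hσ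
  have hτp : ∀ d ∈ τ, d.Prime := fun d hd => hprime d (hτσ hd)
  obtain ⟨H, -, hH, hHK⟩ := exists_hall_finset τ hτp (⊤ : Subgroup G)
  refine false_of_joined (G := H) hτp hτ ?_ hH ?_
  · intro p hp q hq r hr hpq hqr hpr x y z hx hy hz hxy hyz hxz
    have h1 := hxy.orderOf_mul_eq_mul_orderOf_of_coprime
      (by rw [hx, hy]; exact (Nat.coprime_primes (hτp p hp) (hτp q hq)).2 hpq)
    have h2 := (hxz.mul_left hyz).orderOf_mul_eq_mul_orderOf_of_coprime (by
      rw [h1, hx, hy, hz]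
      exact Nat.Coprime.mul_left ((Nat.coprime_primes (hτp p hp) (hτp r hr)).2 hpr)
        ((Nat.coprime_primes (hτp q hq) (hτp r hr)).2 hqr))
    refine h3 p (hτσ hp) q (hτσ hq) r (hτσ hr) hpq hqr hpr ((x * y * z : H) : G) ?_
    rw [orderOf_coe, h2, h1, hx, hy, hz]
  · intro p hp q hq hpq
    obtain ⟨g, hg⟩ := h2 p (hτσ hp) q (hτσ hq) hpq
    obtain ⟨x, -, hx⟩ := hHK (zpowers g) le_top fun d hd h => by
      rw [Nat.card_zpowers, hg] at h
      rcases hd.dvd_mul.1 h with h | h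
      · rwa [(Nat.prime_dvd_prime_iff_eq hd (hτp p hp)).1 h]
      · rwa [(Nat.prime_dvd_prime_iff_eq hd (hτp q hq)).1 h]
    exact ⟨⟨_, hx g (mem_zpowers g)⟩, by rw [← orderOf_coe, orderOf_conj', hg]⟩

end Cfsg.Agent.Joined
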