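import Cfsg.Agent.Lib.Joined.Basic
import Cfsg.Agent.Lib.PGroup.UniqueOrderP

/-!
# A noncyclic normal elementary abelian subgroup

* `diag_false`: an elementary `t`-group on which two squares of other primes act with small fixed
  points is impossible;
* `no_sq_normal`: in a configuration with three further primes, no normal elementary abelian
  subgroup of `L` contains a square.
-/

set_option autoImplicit false

namespace Cfsg.Agent.Joined

open Subgroup

variable {G : Type*} [Group G] [Finite G]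

omit [Finite G] in
theorem smul_line {M : Subgroup G} {a k : G} (hk : k ∈ normalizer (M : Set G)) {w : G}
    (hw : w ∈ M ⊓ centralizer {a}) : k * w * k⁻¹ ∈ M ⊓ centralizer {k * a * k⁻¹} :=
  ⟨(mem_normalizer_iff.1 hk w).1 hw.1, mem_centralizer_singleton_iff.2 (by
    have h := mem_centralizer_singleton_iff.1 hw.2
    calc k * w * k⁻¹ * (k * a * k⁻¹) = k * (w * a) * k⁻¹ := by group
      _ = k * (a * w) * k⁻¹ := by rw [h]
      _ = k * a * k⁻¹ * (k * w * k⁻¹) := by group)⟩

omit [Finite G] in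
theorem mem_zpowers_of_small {t : ℕ} (ht : t.Prime) {M : Subgroup G}
    (hM : IsElementaryAbelian t M) {S : Subgroup G} (hSM : S ≤ M) (hS : ¬ HasSq t S) [Finite G]
    {w x : G} (hw : w ∈ S) (hw1 : w ≠ 1) (hx : x ∈ S) : x ∈ zpowers w := by
  by_contra h
  have := Fact.mk ht
  have hx1 : x ≠ 1 := fun h' => h (by rw [h']; exact one_mem _)
  exact hS ((isSq_sup ht (orderOf_eq_prime (hM.2 w (hSM hw)) hw1)
    (orderOf_eq_prime (hM.2 x (hSM hx)) hx1)
    (PGroup.mul_comm_of_elementaryAbelian hM (hSM hw) (hSM hx)) h).hasSq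
      (sup_le (zpowers_le.2 hw) (zpowers_le.2 hx)))

/-- Two squares for primes `p, q` cannot act on a noncyclic elementary abelian `t`-group with all
nontrivial elements having at most cyclic fixed points. -/
theorem diag_false {p q t : ℕ} (hp : p.Prime) (hq : q.Prime) (ht : t.Prime)
    (hpt : p ≠ t) {M A E : Subgroup G} (hM : IsElementaryAbelian t M)
    (hMs : HasSq t M) (hA : IsSq p A) (hE : IsSq q E) (hAM : A ≤ normalizer (M : Set G))
    (hEM : E ≤ normalizer (M : Set G)) (hEA : E ≤ normalizer (A : Set G))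
    (hEc : ∀ k ∈ E, k ≠ 1 → ¬ A ≤ centralizer {k})
    (hfA : ∀ a ∈ A, a ≠ 1 → ¬ HasSq t (M ⊓ centralizer {a}))
    (hfE : ∀ g ∈ E, g ≠ 1 → ¬ HasSq t (M ⊓ centralizer {g})) : False := by
  classical
  have := hA.elem.1
  have := hE.elem.1
  have := hM.1
  have := Fact.mk ht
  have := Fact.mk hp
  have hMp := PGroup.isPGroup_of_elementaryAbelian hM
  have hcopA := coprime_of_isPGroup hp ht hpt hA.isPGroup hMp
  have hgenA := fun S hS => Coprime.eq_of_forall_centralizer_le (S := S) (hA.not_cyclic hp) hAM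
    hcopA hS
  -- the common fixed points are trivial
  have hC0 : ∀ a ∈ A, ∀ b ∈ A, a ≠ 1 → b ∉ zpowers a →
      M ⊓ centralizer {a} ⊓ centralizer {b} = ⊥ := by
    intro a ha b hb ha1 hba
    by_contra hne
    obtain ⟨w, hw, hwo⟩ := exists_order_of_ne_bot ht hMp (inf_le_left.trans inf_le_left) hne
    have hw1 : w ≠ 1 := fun h => ht.ne_one (by rw [← hwo, h, orderOf_one])
    have hAw : A ≤ centralizer {w} := hA.le_of_two hp ha hb ha1 hba
      (mem_centralizer_singleton_iff.2 (mem_centralizer_singleton_iff.1 hw.1.2).symm)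
      (mem_centralizer_singleton_iff.2 (mem_centralizer_singleton_iff.1 hw.2).symm)
    have hall : zpowers w = M := hgenA _ (zpowers_le.2 hw.1.1) fun x hx hx1 y hy =>
      mem_zpowers_of_small ht hM inf_le_left (hfA x hx hx1)
        ⟨hw.1.1, mem_centralizer_singleton_iff.2 (mem_centralizer_singleton_iff.1 (hAw hx)).symm⟩
        hw1 hy
    obtain ⟨E', hE', hEs⟩ := hMs.exists_isSq
    have hle : Nat.card E' ≤ Nat.card (zpowers w) := card_le_of_le (hE'.trans hall.ge)
    rw [hEs.card, Nat.card_zpowers, hwo] at hle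
    nlinarith [ht.two_le]
  -- an element of `E` fixing an active line moves `A` only inside that line
  have key : ∀ k ∈ E, ∀ a ∈ A, a ≠ 1 → M ⊓ centralizer {a} ≠ ⊥ → k * a * k⁻¹ ∈ zpowers a →
      ∀ b ∈ A, k * b * k⁻¹ * b⁻¹ ∈ zpowers a := by
    intro k hk a ha ha1 hne hka b hb
    obtain ⟨w, hw, hwo⟩ := exists_order_of_ne_bot ht hMp inf_le_left hne
    have hw1 : w ≠ 1 := fun h => ht.ne_one (by rw [← hwo, h, orderOf_one])
    have hWw := fun x hx =>
      mem_zpowers_of_small ht hM inf_le_left (hfA a ha ha1) (x := x) hw hw1 hx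
    have hbw : ∀ b' ∈ A, b' * w * b'⁻¹ ∈ M ⊓ centralizer {a} := fun b' hb' => by
      have h := smul_line (hAM hb') hw
      rwa [hA.comm hb' ha, mul_inv_cancel_right] at h
    obtain ⟨i, hi⟩ := hWw _ (hbw b hb)
    have hka' : centralizer ({k * a * k⁻¹} : Set G) = centralizer {a} :=
      centralizer_eq_of_mem hp (hA.orderOf_eq hp ha ha1) hka (by simpa using ha1)
    have hk' : k⁻¹ * w * k ∈ M ⊓ centralizer {a} := by
      refine ⟨(mem_normalizer_iff''.1 (hEM hk) w).1 hw.1, ?_⟩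
      have h1 : w ∈ centralizer {k * a * k⁻¹} := hka'.symm ▸ hw.2
      have h2 := mem_centralizer_singleton_iff.1 h1
      refine mem_centralizer_singleton_iff.2 ?_
      calc k⁻¹ * w * k * a = k⁻¹ * (w * (k * a * k⁻¹)) * k := by group
        _ = k⁻¹ * (k * a * k⁻¹ * w) * k := by rw [h2]
        _ = a * (k⁻¹ * w * k) := by group
    obtain ⟨j, hj⟩ := hWw _ hk'
    simp only at hi hj
    have h3 : b * (k⁻¹ * w * k) * b⁻¹ = (k⁻¹ * w * k) ^ i := by
      rw [← hj, ← zpow_mul, mul_comm, zpow_mul, hi, conj_zpow]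
    have h4 : (k * b * k⁻¹) * w * (k * b * k⁻¹)⁻¹ = w ^ i := by
      calc (k * b * k⁻¹) * w * (k * b * k⁻¹)⁻¹ = k * (b * (k⁻¹ * w * k) * b⁻¹) * k⁻¹ := by group
        _ = k * (k⁻¹ * w * k) ^ i * k⁻¹ := by rw [h3]
        _ = w ^ i := by rw [← conj_zpow]; group
    have hyA : k * b * k⁻¹ * b⁻¹ ∈ A :=
      mul_mem ((mem_normalizer_iff.1 (hEA hk) b).1 hb) (inv_mem hb)
    by_contra hya
    have h5 : k * b * k⁻¹ * b⁻¹ * w = w * (k * b * k⁻¹ * b⁻¹) := by
      have h6 : b * w * b⁻¹ = (k * b * k⁻¹) * w * (k * b * k⁻¹)⁻¹ := by rw [h4, hi]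
      calc k * b * k⁻¹ * b⁻¹ * w = k * b * k⁻¹ * b⁻¹ * w * (b * b⁻¹) := by group
        _ = b⁻¹ * (k * b * k⁻¹) * w * (b * b⁻¹) := by
            rw [← hA.comm (inv_mem hb) ((mem_normalizer_iff.1 (hEA hk) b).1 hb)]
        _ = b⁻¹ * ((k * b * k⁻¹) * w * (k * b * k⁻¹)⁻¹) * ((k * b * k⁻¹) * b * b⁻¹) := by group
        _ = b⁻¹ * (b * w * b⁻¹) * ((k * b * k⁻¹) * b * b⁻¹) := by rw [h6]
        _ = w * (b⁻¹ * (k * b * k⁻¹) * b * b⁻¹) := by group
        _ = w * (k * b * k⁻¹ * b⁻¹) := by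
            rw [hA.comm (inv_mem hb) ((mem_normalizer_iff.1 (hEA hk) b).1 hb)]; group
    have hcont : w ∈ M ⊓ centralizer {a} ⊓ centralizer {k * b * k⁻¹ * b⁻¹} :=
      ⟨hw, mem_centralizer_singleton_iff.2 h5.symm⟩
    rw [hC0 a ha _ hyA ha1 hya, mem_bot] at hcont
    exact hw1 hcont
  -- no element fixes two active lines
  have key2 : ∀ k ∈ E, k ≠ 1 → ∀ a ∈ A, a ≠ 1 → M ⊓ centralizer {a} ≠ ⊥ → ∀ a' ∈ A,
      a' ∉ zpowers a → M ⊓ centralizer {a'} ≠ ⊥ → k * a * k⁻¹ ∈ zpowers a →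
      k * a' * k⁻¹ ∈ zpowers a' → False := by
    intro k hk hk1 a ha ha1 hne a' ha' haa' hne' hka hka'
    have ha'1 : a' ≠ 1 := fun h => haa' (h ▸ one_mem _)
    refine hEc k hk hk1 fun b hb => mem_centralizer_singleton_iff.2 ?_
    have h1 := key k hk a ha ha1 hne hka b hb
    have h2 := key k hk a' ha' ha'1 hne' hka' b hb
    by_cases hy : k * b * k⁻¹ * b⁻¹ = 1
    · exact (mul_inv_eq_iff_eq_mul.1 (mul_inv_eq_one.1 hy)).symm
    · refine absurd ?_ haa'
      rw [← zpowers_eq_of_mem hp (hA.orderOf_eq hp ha ha1) h1 hy,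
        zpowers_eq_of_mem hp (hA.orderOf_eq hp ha' ha'1) h2 hy]
      exact mem_zpowers a'
  -- two active lines
  obtain ⟨a₁, ha₁, ha₁1, hne₁⟩ := exists_fix ht hp hpt.symm hA hMp hAM (by
    rintro rfl
    obtain ⟨E', hE', hEs⟩ := hMs.exists_isSq
    obtain ⟨e, he, he1⟩ := hEs.exists_not_mem ht (one_mem E')
    exact he1 (by rw [mem_bot.1 (hE' he)]; exact one_mem _))
  obtain ⟨a₂, ha₂, ha₂₁, hne₂⟩ : ∃ a₂ ∈ A, a₂ ∉ zpowers a₁ ∧ M ⊓ centralizer {a₂} ≠ ⊥ := by
    by_contra h
    push Not at h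
    have heq : M ⊓ centralizer {a₁} = M := hgenA _ inf_le_left fun x hx hx1 => by
      by_cases hxa : x ∈ zpowers a₁
      · rw [centralizer_eq_of_mem hp (hA.orderOf_eq hp ha₁ ha₁1) hxa hx1]
      · rw [h x hx hxa]
        exact bot_le
    exact hfA a₁ ha₁ ha₁1 (heq.symm ▸ hMs)
  obtain ⟨k₀, hk₀, hk₀1⟩ := hE.exists_not_mem hq (one_mem E)
  obtain ⟨a, ha, ha1, hne, g₀, hg₀, hmove⟩ : ∃ a ∈ A, a ≠ 1 ∧ M ⊓ centralizer {a} ≠ ⊥ ∧
      ∃ g₀ ∈ E, g₀ * a * g₀⁻¹ ∉ zpowers a := by
    by_contra h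
    push Not at h
    exact key2 k₀ hk₀ (fun hh => hk₀1 (by rw [hh]; exact one_mem _)) a₁ ha₁ ha₁1 hne₁ a₂ ha₂ ha₂₁ hne₂
      (h a₁ ha₁ ha₁1 hne₁ k₀ hk₀) (h a₂ ha₂ (fun hh => ha₂₁ (by rw [hh]; exact one_mem _)) hne₂ k₀ hk₀)
  obtain ⟨w, hw, hwo⟩ := exists_order_of_ne_bot ht hMp inf_le_left hne
  have hw1 : w ≠ 1 := fun h => ht.ne_one (by rw [← hwo, h, orderOf_one])
  -- nontrivial elements move the line
  have hmv : ∀ k ∈ E, k ≠ 1 → k * a * k⁻¹ ∉ zpowers a := by
    intro k hk hk1 hka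
    refine key2 k hk hk1 a ha ha1 hne _ ((mem_normalizer_iff.1 (hEA hg₀) a).1 ha) hmove ?_ hka ?_
    · intro hbot
      have := smul_line (hEM hg₀) hw
      rw [hbot, mem_bot] at this
      exact hw1 (by simpa using this)
    · obtain ⟨n, hn⟩ := hka
      simp only at hn
      refine ⟨n, ?_⟩
      simp only
      rw [conj_zpow, hn]
      have hc := hE.comm hk hg₀
      have hc' : k⁻¹ * g₀⁻¹ = g₀⁻¹ * k⁻¹ := by rw [← mul_inv_rev, ← mul_inv_rev, hc]
      calc g₀ * (k * a * k⁻¹) * g₀⁻¹ = g₀ * k * a * (k⁻¹ * g₀⁻¹) := by group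
        _ = k * g₀ * a * (g₀⁻¹ * k⁻¹) := by rw [hc', hc]
        _ = k * (g₀ * a * g₀⁻¹) * k⁻¹ := by group
  obtain ⟨g, hg, hg1⟩ := hE.exists_not_mem hq (one_mem E)
  have hg1' : g ≠ 1 := fun h => hg1 (by rw [h]; exact one_mem _)
  obtain ⟨h, hh, hhg⟩ := hE.exists_not_mem hq hg
  have hh1 : h ≠ 1 := fun h' => hhg (by rw [h']; exact one_mem _)
  open scoped IsMulCommutative in
  let φ : normalizer (M : Set G) →* MulAut M := M.normalizerMonoidHom
  open scoped IsMulCommutative in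
  let Nrm : normalizer (M : Set G) → ℕ → M →* M := fun x n =>
    ∏ i ∈ Finset.range n, (φ (x ^ i)).toMonoidHom
  open scoped IsMulCommutative in
  have hNapp : ∀ x n (v : M), Nrm x n v = ∏ i ∈ Finset.range n, φ (x ^ i) v := fun x n v => by
    simp [Nrm, MonoidHom.finsetProd_apply]
  open scoped IsMulCommutative in
  have hshift : ∀ (x : normalizer (M : Set G)) (n : ℕ), x ^ n = 1 → ∀ v : M,
      φ x (Nrm x n v) = Nrm x n v := by
    intro x n hx v
    have hs : ∀ i, φ x (φ (x ^ i) v) = φ (x ^ (i + 1)) v := fun i => by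
      rw [pow_succ', map_mul, MulAut.mul_apply]
    rw [hNapp, map_prod]
    simp only [hs]
    have e1 := Finset.prod_range_succ' (fun i => φ (x ^ i) v) n
    have e2 := Finset.prod_range_succ (fun i => φ (x ^ i) v) n
    rw [hx] at e2
    simp only [pow_zero] at e1
    exact mul_right_cancel (e1.symm.trans e2)
  have hval : ∀ (x : normalizer (M : Set G)) (v : M),
      ((φ x v : M) : G) = (x : G) * v * (x : G)⁻¹ := fun x v => rfl
  -- the norm of an element of another line vanishes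
  let cb : ∀ b ∈ A, normalizer (M : Set G) := fun b hb => ⟨b, hAM hb⟩
  have hpow : ∀ b (hb : b ∈ A), cb b hb ^ p = 1 := fun b hb => Subtype.ext (hA.elem.2 b hb)
  open scoped IsMulCommutative in
  have hkill : ∀ b (hb : b ∈ A) (b' : G), b' ∈ A → b ≠ 1 → b' ∉ zpowers b → ∀ v : M,
      (v : G) ∈ centralizer {b'} → Nrm (cb b hb) p v = 1 := by
    intro b hb b' hb' hb1 hbb' v hv
    have hfix : φ (cb b' hb') (Nrm (cb b hb) p v) = Nrm (cb b hb) p v := by
      rw [hNapp, map_prod]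
      refine Finset.prod_congr rfl fun i _ => ?_
      have hc : Commute (cb b' hb') (cb b hb ^ i) :=
        (show Commute (cb b' hb') (cb b hb) from Subtype.ext (hA.comm hb' hb)).pow_right i
      rw [← MulAut.mul_apply, ← map_mul, hc.eq, map_mul, MulAut.mul_apply]
      congr 1
      refine Subtype.ext ?_
      rw [hval]
      exact mul_inv_eq_iff_eq_mul.2 (mem_centralizer_singleton_iff.1 hv).symm
    have h1 := congrArg Subtype.val (hshift (cb b hb) p (hpow b hb) v)
    have h2 := congrArg Subtype.val hfix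
    rw [hval] at h1 h2
    have hmem : ((Nrm (cb b hb) p v : M) : G) ∈ M ⊓ centralizer {b} ⊓ centralizer {b'} :=
      ⟨⟨Subtype.prop _, mem_centralizer_singleton_iff.2 (mul_inv_eq_iff_eq_mul.1 h1).symm⟩,
        mem_centralizer_singleton_iff.2 (mul_inv_eq_iff_eq_mul.1 h2).symm⟩
    rw [hC0 b hb b' hb' hb1 hbb', mem_bot] at hmem
    exact Subtype.ext hmem
  open scoped IsMulCommutative in
  have hself : ∀ b (hb : b ∈ A) (v : M), (v : G) ∈ centralizer {b} →
      Nrm (cb b hb) p v = v ^ p := by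
    intro b hb v hv
    rw [hNapp]
    conv_rhs => rw [← Finset.card_range p, ← Finset.prod_const]
    refine Finset.prod_congr rfl fun i _ => Subtype.ext ?_
    rw [hval]
    refine mul_inv_eq_iff_eq_mul.2 ?_
    rw [SubmonoidClass.coe_pow]
    exact ((show Commute b (v : G) from (mem_centralizer_singleton_iff.1 hv).symm).pow_left i).eq
  let cg : normalizer (M : Set G) := ⟨g, hEM hg⟩
  have hgq : cg ^ q = 1 := Subtype.ext (hE.elem.2 g hg)
  let a' : G := h * a * h⁻¹
  have ha' : a' ∈ A := (mem_normalizer_iff.1 (hEA hh) a).1 ha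
  have ha'1 : a' ≠ 1 := by simpa [a'] using ha1
  let v : M := ⟨w, hw.1⟩
  let v' : M := ⟨h * w * h⁻¹, (smul_line (hEM hh) hw).1⟩
  have hv : (v : G) ∈ centralizer {a} := hw.2
  have hv' : (v' : G) ∈ centralizer {a'} := (smul_line (hEM hh) hw).2
  open scoped IsMulCommutative in
  let x : M := Nrm cg q v
  open scoped IsMulCommutative in
  let y : M := Nrm cg q v'
  have hmemA : ∀ i : ℕ, g ^ i * a * (g ^ i)⁻¹ ∈ A ∧ g ^ i * a' * (g ^ i)⁻¹ ∈ A := fun i =>
    ⟨(mem_normalizer_iff.1 (hEA (pow_mem hg i)) a).1 ha,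
      (mem_normalizer_iff.1 (hEA (pow_mem hg i)) a').1 ha'⟩
  have hconj : ∀ (i : ℕ) (u : M) (c : G), (u : G) ∈ centralizer {c} →
      ((φ (cg ^ i) u : M) : G) ∈ centralizer {g ^ i * c * (g ^ i)⁻¹} := by
    intro i u c hu
    rw [hval, SubmonoidClass.coe_pow]
    exact (smul_line (hEM (pow_mem hg i)) (⟨u.2, hu⟩ : (u : G) ∈ M ⊓ centralizer {c})).2
  -- `N_a x = w ^ p`
  open scoped IsMulCommutative in
  have hx : Nrm (cb a ha) p x = v ^ p := by
    show Nrm (cb a ha) p (Nrm cg q v) = v ^ p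
    rw [hNapp cg, map_prod, Finset.prod_eq_single 0]
    · rw [pow_zero, map_one]
      exact hself a ha v hv
    · intro i hi hi0
      refine hkill a ha _ (hmemA i).1 ha1 (hmv _ (pow_mem hg i) ?_) _ (hconj i v a hv)
      intro hgi
      have hd := orderOf_dvd_of_pow_eq_one hgi
      rw [hE.orderOf_eq hq hg hg1'] at hd
      have := Nat.le_of_dvd (Nat.pos_of_ne_zero hi0) hd
      have := Finset.mem_range.1 hi
      omega
    · intro h0
      exact absurd (Finset.mem_range.2 hq.pos) h0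
  -- `N_a y = 1`
  open scoped IsMulCommutative in
  have hy : Nrm (cb a ha) p y = 1 := by
    show Nrm (cb a ha) p (Nrm cg q v') = 1
    rw [hNapp cg, map_prod]
    refine Finset.prod_eq_one fun i _ => hkill a ha _ (hmemA i).2 ha1 ?_ _ (hconj i v' a' hv')
    have heq : g ^ i * a' * (g ^ i)⁻¹ = (g ^ i * h) * a * (g ^ i * h)⁻¹ := by simp [a']; group
    rw [heq]
    refine hmv _ (mul_mem (pow_mem hg i) hh) fun hgh => hhg ?_
    rw [eq_inv_of_mul_eq_one_right hgh]
    exact inv_mem (pow_mem (mem_zpowers g) i)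
  -- `N_{a'} y = w' ^ p`
  open scoped IsMulCommutative in
  have hy' : Nrm (cb a' ha') p y = v' ^ p := by
    show Nrm (cb a' ha') p (Nrm cg q v') = v' ^ p
    rw [hNapp cg, map_prod, Finset.prod_eq_single 0]
    · rw [pow_zero, map_one]
      exact hself a' ha' v' hv'
    · intro i hi hi0
      refine hkill a' ha' _ (hmemA i).2 ha'1 ?_ _ (hconj i v' a' hv')
      intro hmem
      refine hmv _ (pow_mem hg i) ?_ ?_
      · intro hgi
        have hd := orderOf_dvd_of_pow_eq_one hgi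
        rw [hE.orderOf_eq hq hg hg1'] at hd
        have := Nat.le_of_dvd (Nat.pos_of_ne_zero hi0) hd
        have := Finset.mem_range.1 hi
        omega
      · obtain ⟨n, hn⟩ := hmem
        simp only [a', conj_zpow] at hn
        refine ⟨n, ?_⟩
        simp only
        have hc := hE.comm (pow_mem hg i) hh
        have hc' : h⁻¹ * (g ^ i)⁻¹ = (g ^ i)⁻¹ * h⁻¹ := by rw [← mul_inv_rev, ← mul_inv_rev, hc]
        calc a ^ n = h⁻¹ * (h * a ^ n * h⁻¹) * h := by group
          _ = h⁻¹ * (g ^ i * h * a * (h⁻¹ * (g ^ i)⁻¹)) * h := by rw [hn]; group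
          _ = h⁻¹ * (h * g ^ i * a * ((g ^ i)⁻¹ * h⁻¹)) * h := by rw [hc, hc']
          _ = g ^ i * a * (g ^ i)⁻¹ := by group
    · intro h0
      exact absurd (Finset.mem_range.2 hq.pos) h0
  have hpow' : ∀ u : M, (u : G) ≠ 1 → u ^ p ≠ 1 := by
    intro u hu h1
    refine hu (orderOf_eq_one_iff.1 (Nat.eq_one_of_dvd_coprimes ((Nat.coprime_primes hp ht).2 hpt)
      (orderOf_dvd_of_pow_eq_one ?_) (orderOf_dvd_of_pow_eq_one (hM.2 u u.2))))
    simpa using congrArg Subtype.val h1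
  open scoped IsMulCommutative in
  have hfixg : ∀ u : M, ((Nrm cg q u : M) : G) ∈ M ⊓ centralizer {g} := by
    intro u
    have h1 := congrArg Subtype.val (hshift cg q hgq u)
    rw [hval] at h1
    exact ⟨Subtype.prop _, mem_centralizer_singleton_iff.2 (mul_inv_eq_iff_eq_mul.1 h1).symm⟩
  open scoped IsMulCommutative in
  have hy1 : (y : G) ≠ 1 := by
    intro h1
    have : y = 1 := Subtype.ext h1
    rw [this, map_one] at hy'
    exact hpow' v' (by simpa [v'] using hw1) hy'.symm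
  open scoped IsMulCommutative in
  have hxy : (x : G) ∈ zpowers (y : G) :=
    mem_zpowers_of_small ht hM inf_le_left (hfE g hg hg1') (hfixg v') hy1 (hfixg v)
  obtain ⟨n, hn⟩ := hxy
  open scoped IsMulCommutative in
  have hxn : x = y ^ n := Subtype.ext (by simpa using hn.symm)
  rw [hxn, map_zpow, hy, one_zpow] at hx
  exact hpow' v hw1 hx.symm

variable {σ : Finset ℕ} {r : ℕ} {V L : Subgroup G}

/-- A fixed-point-free element of `p`-order centralising `M`. -/
theorem Cfg.centralizing_false (c : Cfg σ r V L) {p q t : ℕ} (hp : p ∈ σ) (hq : q ∈ σ)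
    (ht : t ∈ σ) (hpq : p ≠ q) (hpt : p ≠ t) (hqt : q ≠ t) (hpr : p ≠ r) (hqr : q ≠ r)
    (htr : t ≠ r) {M : Subgroup G} (hM : IsElementaryAbelian t M) (hML : M ≤ L)
    (hMn : L ≤ normalizer (M : Set G)) (hMs : HasSq t M) {H : Subgroup G} (hHL : H ≤ L)
    (hH : ∀ d : ℕ, d.Prime → d ∣ Nat.card H → d = p ∨ d = q) (hp2 : HasSq p H) (hq2 : HasSq q H)
    {e : G} (heH : e ∈ H) (he : orderOf e = p) (heM : M ≤ centralizer {e}) : False := by
  have hp' := c.prime p hp
  have hq' := c.prime q hq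
  have ht' := c.prime t ht
  have := Fact.mk hp'
  obtain ⟨F, hFM, hF⟩ := hMs.exists_isSq
  obtain ⟨u, huF, hu1⟩ := hF.exists_not_mem ht' (one_mem F)
  have hu : orderOf u = t := hF.orderOf_eq ht' huF fun h => hu1 (by rw [h]; exact one_mem _)
  have hfpf : ∀ (d : ℕ) (x : G), d ∈ σ → d ≠ t → d ≠ r → orderOf x = d → M ≤ centralizer {x} →
      V ⊓ centralizer {x} = ⊥ := fun d x hd h1 h2 hx hMx =>
    c.fpf_of_sq hd ht h1 h2 htr hx hF (hFM.trans hML) (hFM.trans hMx)
  have hcom : ∀ x, M ≤ centralizer {x} → x * u = u * x := fun x hx =>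
    (mem_centralizer_singleton_iff.1 (hx (hFM huF))).symm
  have hVe := hfpf p e hp hpt hpr he heM
  have hnoq : ∀ f ∈ H, orderOf f = q → ¬ M ≤ centralizer {f} := fun f hfH hf hfM =>
    c.not_two_fpf hp hq ht hpq hpt hqt hpr hqr hu he hf (hHL heH) (hHL hfH) (hcom e heM)
      (hcom f hfM) hVe (hfpf q f hq hqt hqr hf hfM)
  set H₁ : Subgroup G := H ⊓ centralizer (M : Set G)
  have hmem₁ : ∀ x ∈ H₁, M ≤ centralizer {x} := fun x hx y hy =>
    mem_centralizer_singleton_iff.2 (mem_centralizer_iff.1 hx.2 y hy)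
  have hH₁p : IsPGroup p H₁ := by
    rw [IsPGroup.iff_card]
    refine ⟨(Nat.card H₁).primeFactorsList.length, ?_⟩
    refine Nat.eq_prime_pow_of_unique_prime_dvd Nat.card_pos.ne' fun {d} hd hdvd => ?_
    have := Fact.mk hd
    obtain ⟨x, hx⟩ := exists_prime_orderOf_dvd_card' d hdvd
    rw [← orderOf_coe] at hx
    rcases hH d hd (hx ▸ H.orderOf_dvd_natCard x.2.1) with h | h
    · exact h
    · exact absurd (hmem₁ _ x.2) (hnoq _ x.2.1 (hx.trans h))
  have huniq : ∀ x ∈ H₁, orderOf x = p → x ∈ zpowers e := by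
    rcases hasSq_or_unique hp' hH₁p with h | h
    · obtain ⟨E', hE', hE's⟩ := h.exists_isSq
      obtain ⟨x, hx, hx1, hfix⟩ := c.exists_fix hp hpr hE's (hE'.trans (inf_le_left.trans hHL))
      exact absurd (hfpf p x hp hpt hpr (hE's.orderOf_eq hp' hx hx1) (hmem₁ x (hE' hx))) hfix
    · exact fun x hx hxo =>
        h e ⟨heH, mem_centralizer_iff.2 fun y hy => mem_centralizer_singleton_iff.1 (heM hy)⟩ x
          hx he hxo
  have hHe : H ≤ normalizer (zpowers e : Set G) := by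
    have key : ∀ g ∈ H, g * e * g⁻¹ ∈ zpowers e := by
      intro g hg
      refine huniq _ ⟨H.mul_mem (H.mul_mem hg heH) (H.inv_mem hg), mem_centralizer_iff.2 fun y hy => ?_⟩
        (by rw [orderOf_conj', he])
      have hy' : g⁻¹ * y * g ∈ M := (mem_normalizer_iff''.1 (hMn (hHL hg)) y).1 hy
      have h1 := mem_centralizer_singleton_iff.1 (heM hy')
      calc y * (g * e * g⁻¹) = g * ((g⁻¹ * y * g) * e) * g⁻¹ := by group
        _ = g * (e * (g⁻¹ * y * g)) * g⁻¹ := by rw [h1]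
        _ = g * e * g⁻¹ * y := by group
    intro g hg
    have hk : ∀ g ∈ H, ∀ z ∈ zpowers e, g * z * g⁻¹ ∈ zpowers e := by
      rintro g hg _ ⟨n, rfl⟩
      simp only
      rw [← conj_zpow]
      exact zpow_mem (key g hg) n
    refine mem_normalizer_iff.2 fun z => ⟨hk g hg z, fun hz => ?_⟩
    have := hk g⁻¹ (inv_mem hg) _ hz
    rwa [inv_inv, show g⁻¹ * (g * z * g⁻¹) * g = z by group] at this
  obtain ⟨E, hEH, hE⟩ := hq2.exists_isSq
  obtain ⟨Ep, hEpH, hEp⟩ := hp2.exists_isSq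
  have := Coprime.isSolvable_of_le hHL c.sol
  have hsolH : Group.IsSolvable H := this
  refine no_line hp' hq' hpq hH he heH hHe hE hEH hEp hEpH ?_ ?_ ?_
  · intro E' hE'H hE' hE'e
    obtain ⟨g, hg, hg1, hfix⟩ := Joined.exists_fix ht' hq' hqt.symm hE'
      (PGroup.isPGroup_of_elementaryAbelian hM) ((hE'H.trans hHL).trans hMn)
      (fun h => hu1 (by rw [mem_bot.1 (h ▸ hFM huF : u ∈ (⊥ : Subgroup G))]; exact one_mem _))
    obtain ⟨z, hz, hzo⟩ := exists_order_of_ne_bot ht'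
      (PGroup.isPGroup_of_elementaryAbelian hM) inf_le_left hfix
    exact c.no3 p hp q hq t ht hpq hqt hpt e g z he (hE'.orderOf_eq hq' hg hg1) hzo
      (mem_centralizer_singleton_iff.1 (hE'e hg)).symm
      (mem_centralizer_singleton_iff.1 hz.2).symm
      (mem_centralizer_singleton_iff.1 (heM hz.1)).symm
  · intro g hgE hge
    by_contra hne
    have hg1 : g ≠ 1 := fun h => hge (by rw [h, one_mul, mul_one])
    have hgo := hE.orderOf_eq hq' hgE hg1
    obtain ⟨x, hx, hxo⟩ := exists_order_of_ne_bot hp' (isPGroup_coreIn p H) inf_le_left hne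
    have hxH : x ∈ H := coreIn_le p H hx.1
    have hxg := mem_centralizer_singleton_iff.1 hx.2
    have hxe : x * e = e * x :=
      commute_of_coprime_sub_one hp' he (conj_mem_zpowers_of_le_normalizer hHe hxH) (by
        rw [hxo]
        exact hp'.coprime_iff_not_dvd.2 fun h =>
          absurd (Nat.le_of_dvd (by have := hp'.two_le; omega) h) (by have := hp'.two_le; omega))
    have hxne : x ∉ zpowers e := by
      intro hmem
      refine hge (commute_of_mem_zpowers hxg.symm ?_)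
      rw [zpowers_eq_of_mem hp' he hmem fun h => hp'.ne_one (by rw [← hxo, h, orderOf_one])]
      exact mem_zpowers e
    have hVx : V ⊓ centralizer {x} = ⊥ := by
      have hgz : g ∈ centralizer {x} := mem_centralizer_singleton_iff.2 hxg.symm
      have hez : e ∈ centralizer {x} := mem_centralizer_singleton_iff.2 hxe.symm
      have hWg : V ⊓ centralizer {x} ⊓ centralizer {g} = ⊥ :=
        c.eq_bot_pair hp hq hpq hpr hqr hxo hgo hxg
      have heg : zpowers e ⊓ centralizer {g} = ⊥ := by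
        refine (eq_bot_iff_forall _).2 fun z hz => ?_
        by_contra hz1
        refine hge (commute_of_mem_zpowers (mem_centralizer_singleton_iff.1 hz.2).symm ?_)
        rw [zpowers_eq_of_mem hp' he hz.1 hz1]
        exact mem_zpowers e
      have hVn := hHL.trans c.hLV
      have h1 := centralizes_of_moved hp' hq' (c.prime r c.mem) hpq.symm hqr hpr
        (isPGroup_zpowers hp' he) (c.hV.to_le inf_le_left) hgo
        (le_normalizer_inf_centralizer ((zpowers_le.2 heH).trans hVn) (zpowers_le.2 hez))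
        (le_normalizer_inf_centralizer ((zpowers_le.2 (hEH hgE)).trans hVn) (zpowers_le.2 hgz)
          (mem_zpowers g))
        (hHe (hEH hgE)) heg hWg
      refine (eq_bot_iff_forall _).2 fun z hz => ?_
      have : z ∈ V ⊓ centralizer {e} :=
        ⟨hz.1, mem_centralizer_singleton_iff.2 (mem_centralizer_iff.1 (h1 (mem_zpowers e)) z hz)⟩
      rwa [hVe, mem_bot] at this
    have hMx := c.centralizes ht hp hpt.symm htr hpr hxo (hHL hxH) hM hML (hMn (hHL hxH)) hVx
    exact hxne (huniq x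
      ⟨hxH, mem_centralizer_iff.2 fun y hy => mem_centralizer_singleton_iff.1 (hMx hy)⟩ hxo)
  · intro b hbH hbo hEb
    have hVb := c.fpf_of_sq hq hp hpq.symm hqr hpr hbo hEp (hEpH.trans hHL) hEb
    exact hnoq b hbH hbo (c.centralizes ht hq hqt.symm htr hqr hbo (hHL hbH) hM hML (hMn (hHL hbH)) hVb)

/-- The case where no element of order `p` or `q` centralises `M`, oriented by a normal `p`-group. -/
theorem Cfg.faithful_false (c : Cfg σ r V L) {p q t : ℕ} (hp : p ∈ σ) (hq : q ∈ σ)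
    (ht : t ∈ σ) (hpq : p ≠ q) (hpt : p ≠ t) (hqt : q ≠ t) (hpr : p ≠ r) (hqr : q ≠ r)
    (htr : t ≠ r) {M : Subgroup G} (hM : IsElementaryAbelian t M) (hML : M ≤ L)
    (hMn : L ≤ normalizer (M : Set G)) (hMs : HasSq t M) {H : Subgroup G} (hHL : H ≤ L)
    (hH : ∀ d : ℕ, d.Prime → d ∣ Nat.card H → d = p ∨ d = q) (hp2 : HasSq p H) (hq2 : HasSq q H)
    (hnone : ∀ x ∈ H, orderOf x = p ∨ orderOf x = q → ¬ M ≤ centralizer {x})
    {B : Subgroup G} (hB : IsElementaryAbelian p B) (hBH : B ≤ H)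
    (hHB : H ≤ normalizer (B : Set G)) (hBne : B ≠ ⊥) : False := by
  have hp' := c.prime p hp
  have hq' := c.prime q hq
  have ht' := c.prime t ht
  have := Fact.mk hp'
  have hsolH : Group.IsSolvable H := Coprime.isSolvable_of_le hHL c.sol
  have hBp := PGroup.isPGroup_of_elementaryAbelian hB
  obtain ⟨E, hEH, hE⟩ := hq2.exists_isSq
  obtain ⟨Ep, hEpH, hEp⟩ := hp2.exists_isSq
  have hnfp : ∀ x ∈ H, ∀ (d : ℕ), d ∈ σ → d ≠ t → d ≠ r → (d = p ∨ d = q) → orderOf x = d →
      V ⊓ centralizer {x} ≠ ⊥ := by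
    intro x hxH d hd hdt hdr hd' hx hVx
    refine hnone x hxH (hx ▸ hd') ?_
    exact c.centralizes ht hd hdt.symm htr hdr hx (hHL hxH) hM hML (hMn (hHL hxH)) hVx
  have hnsq : ∀ x ∈ H, orderOf x = p → ∀ E' ≤ L, IsSq q E' → ¬ E' ≤ centralizer {x} :=
    fun x hxH hx E' hE'L hE' h =>
      hnfp x hxH p hp hpt hpr (Or.inl rfl) hx (c.fpf_of_sq hp hq hpq hpr hqr hx hE' hE'L h)
  have hnsq' : ∀ x ∈ H, orderOf x = q → ∀ E' ≤ L, IsSq p E' → ¬ E' ≤ centralizer {x} :=
    fun x hxH hx E' hE'L hE' h =>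
      hnfp x hxH q hq hqt hqr (Or.inr rfl) hx (c.fpf_of_sq hq hp hpq.symm hqr hpr hx hE' hE'L h)
  have hMsm : ∀ x ∈ H, ∀ (d : ℕ), d ∈ σ → d ≠ t → d ≠ r → (d = p ∨ d = q) → orderOf x = d →
      ¬ HasSq t (M ⊓ centralizer {x}) := by
    intro x hxH d hd hdt hdr hd' hx hs
    obtain ⟨E', hE', hE's⟩ := hs.exists_isSq
    exact hnfp x hxH d hd hdt hdr hd' hx (c.fpf_of_sq hd ht hdt hdr htr hx hE's
      ((hE'.trans inf_le_left).trans hML) (hE'.trans inf_le_right))
  -- fixed points of `g` in `p`-groups are small and invariant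
  have line : ∀ (R : Subgroup G), R ≤ H → IsPGroup p R → H ≤ normalizer (R : Set G) →
      ∀ g ∈ E, g ≠ 1 → ∀ x ∈ R ⊓ centralizer {g}, orderOf x = p →
      ∀ e ∈ E, e * x * e⁻¹ ∈ zpowers x := by
    intro R hRH hR hHR g hgE hg1 x hx hxo e he
    have hxe : e * x * e⁻¹ ∈ R ⊓ centralizer {g} := by
      have h := smul_line (hHR (hEH he)) hx
      rwa [hE.comm he hgE, mul_inv_cancel_right] at h
    rcases hasSq_or_unique hp' (hR.to_le (inf_le_left : R ⊓ centralizer {g} ≤ R)) with h | h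
    · obtain ⟨E', hE', hE's⟩ := h.exists_isSq
      exact absurd (hE'.trans inf_le_right) (hnsq' g (hEH hgE) (hE.orderOf_eq hq' hgE hg1) E'
        (((hE'.trans inf_le_left).trans hRH).trans hHL) hE's)
    · exact h x hx _ hxe hxo (by rw [orderOf_conj', hxo])
  obtain ⟨a₁, x, ha₁H, hxH, ha₁o, hxo, hax, hxa, hEa, hEx⟩ : ∃ a x : G, a ∈ H ∧ x ∈ H ∧
      orderOf a = p ∧ orderOf x = p ∧ a * x = x * a ∧ x ∉ zpowers a ∧
      (∀ e ∈ E, e * a * e⁻¹ ∈ zpowers a) ∧ (∀ e ∈ E, e * x * e⁻¹ ∈ zpowers x) := by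
    by_cases hBs : HasSq p B
    · have := hE.elem.1
      obtain ⟨e₁, he₁, he₁1, hf₁⟩ := Joined.exists_fix hp' hq' hpq hE hBp (hEH.trans hHB) hBne
      obtain ⟨a, ha, hao⟩ := exists_order_of_ne_bot hp' hBp inf_le_left hf₁
      obtain ⟨e₂, he₂, he₂₁, hf₂⟩ : ∃ e₂ ∈ E, e₂ ∉ zpowers e₁ ∧ B ⊓ centralizer {e₂} ≠ ⊥ := by
        by_contra h
        push Not at h
        have heq : B ⊓ centralizer {e₁} = B :=
          Coprime.eq_of_forall_centralizer_le (hE.not_cyclic hq') (hEH.trans hHB)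
            (coprime_of_isPGroup hq' hp' hpq.symm hE.isPGroup hBp) inf_le_left fun e he he1 => by
          by_cases hee : e ∈ zpowers e₁
          · rw [centralizer_eq_of_mem hq' (hE.orderOf_eq hq' he₁ he₁1) hee he1]
          · rw [h e he hee]
            exact bot_le
        obtain ⟨E', hE', hE's⟩ := hBs.exists_isSq
        exact hnsq' e₁ (hEH he₁) (hE.orderOf_eq hq' he₁ he₁1) E' ((hE'.trans hBH).trans hHL) hE's
          (hE'.trans (heq.ge.trans inf_le_right))
      obtain ⟨x, hx, hxo⟩ := exists_order_of_ne_bot hp' hBp inf_le_left hf₂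
      have he₂1 : e₂ ≠ 1 := fun h => he₂₁ (by rw [h]; exact one_mem _)
      refine ⟨a, x, hBH ha.1, hBH hx.1, hao, hxo,
        PGroup.mul_comm_of_elementaryAbelian hB ha.1 hx.1, ?_,
        line B hBH hBp hHB e₁ he₁ he₁1 a ha hao, line B hBH hBp hHB e₂ he₂ he₂1 x hx hxo⟩
      intro hxa
      refine hnsq a (hBH ha.1) hao E (hEH.trans hHL) hE
        (hE.le_of_two hq' he₁ he₂ he₁1 he₂₁
          (mem_centralizer_singleton_iff.2 (mem_centralizer_singleton_iff.1 ha.2).symm)
          (mem_centralizer_singleton_iff.2 ?_))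
      refine commute_of_mem_zpowers (mem_centralizer_singleton_iff.1 hx.2).symm ?_
      rw [zpowers_eq_of_mem hp' hao hxa fun h => hp'.ne_one (by rw [← hxo, h, orderOf_one])]
      exact mem_zpowers a
    · obtain ⟨a, ha, hao⟩ := exists_order_of_ne_bot hp' hBp le_rfl hBne
      have hHa : H ≤ normalizer (zpowers a : Set G) := by
        rcases hasSq_or_unique hp' hBp with h | h
        · exact absurd h hBs
        · have heq : zpowers a = B := le_antisymm (zpowers_le.2 ha) fun b hb => by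
            by_cases hb1 : b = 1
            · exact hb1 ▸ one_mem _
            · exact h a ha b hb hao (orderOf_eq_prime (hB.2 b hb) hb1)
          rwa [heq]
      by_contra hno
      refine no_line hp' hq' hpq hH hao (hBH ha) hHa hE hEH hEp hEpH
        (fun E' hE'H hE' => hnsq a (hBH ha) hao E' (hE'H.trans hHL) hE') ?_
        fun b hb hbo hEb => hnsq' b hb hbo Ep (hEpH.trans hHL) hEp hEb
      intro g hgE hga
      by_contra hne
      have hg1 : g ≠ 1 := fun h => hga (by rw [h, one_mul, mul_one])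
      obtain ⟨x, hx, hxo⟩ := exists_order_of_ne_bot hp' (isPGroup_coreIn p H) inf_le_left hne
      refine hno ⟨a, x, hBH ha, coreIn_le p H hx.1, hao, hxo,
        (commute_of_coprime_sub_one hp' hao
          (conj_mem_zpowers_of_le_normalizer hHa (coreIn_le p H hx.1)) ?_).symm, ?_,
        fun e he => conj_mem_zpowers_of_le_normalizer hHa (hEH he),
        line (coreIn p H) (coreIn_le p H) (isPGroup_coreIn p H) (le_normalizer_coreIn p H) g hgE
          hg1 x hx hxo⟩
      · rw [hxo]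
        exact hp'.coprime_iff_not_dvd.2 fun h =>
          absurd (Nat.le_of_dvd (by have := hp'.two_le; omega) h) (by have := hp'.two_le; omega)
      · intro hxa
        refine hga (commute_of_mem_zpowers (mem_centralizer_singleton_iff.1 hx.2).symm ?_)
        rw [zpowers_eq_of_mem hp' hao hxa fun h => hp'.ne_one (by rw [← hxo, h, orderOf_one])]
        exact mem_zpowers a
  have hA := isSq_sup hp' ha₁o hxo hax hxa
  have hAH : zpowers a₁ ⊔ zpowers x ≤ H := sup_le (zpowers_le.2 ha₁H) (zpowers_le.2 hxH)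
  refine diag_false hp' hq' ht' hpt hM hMs hA hE ((hAH.trans hHL).trans hMn)
    ((hEH.trans hHL).trans hMn) ?_ ?_
    (fun a ha ha1 => hMsm a (hAH ha) p hp hpt hpr (Or.inl rfl) (hA.orderOf_eq hp' ha ha1))
    (fun g hg hg1 => hMsm g (hEH hg) q hq hqt hqr (Or.inr rfl) (hE.orderOf_eq hq' hg hg1))
  · intro e he
    refine mem_normalizer_fintype fun z hz => ?_
    have hle : zpowers a₁ ⊔ zpowers x ≤
        (zpowers a₁ ⊔ zpowers x).comap (MulAut.conj e).toMonoidHom :=
      sup_le (zpowers_le.2 (mem_comap.2 (mem_sup_left (hEa e he))))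
        (zpowers_le.2 (mem_comap.2 (mem_sup_right (hEx e he))))
    exact hle hz
  · intro k hk hk1 h
    exact hnsq' k (hEH hk) (hE.orderOf_eq hq' hk hk1) _ (hAH.trans hHL) hA h

/-- **No normal elementary abelian subgroup with a square.** -/
theorem Cfg.no_sq_normal (c : Cfg σ r V L) {p q t : ℕ} (hp : p ∈ σ) (hq : q ∈ σ) (ht : t ∈ σ)
    (hpq : p ≠ q) (hpt : p ≠ t) (hqt : q ≠ t) (hpr : p ≠ r) (hqr : q ≠ r) (htr : t ≠ r)
    (hsp : HasSq p L) (hsq : HasSq q L) {M : Subgroup G} (hM : IsElementaryAbelian t M)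
    (hML : M ≤ L) (hMn : L ≤ normalizer (M : Set G)) : ¬ HasSq t M := by
  intro hMs
  have := c.sol
  obtain ⟨H, hHL, hH, hp2, hq2⟩ := exists_hall_sq (c.prime p hp) (c.prime q hq) hpq hsp hsq
  have hH' : ∀ d : ℕ, d.Prime → d ∣ Nat.card H → d = q ∨ d = p := fun d hd h => (hH d hd h).symm
  by_cases hex : ∃ x ∈ H, (orderOf x = p ∨ orderOf x = q) ∧ M ≤ centralizer {x}
  · obtain ⟨x, hxH, hx | hx, hMx⟩ := hex
    · exact c.centralizing_false hp hq ht hpq hpt hqt hpr hqr htr hM hML hMn hMs hHL hH hp2 hq2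
        hxH hx hMx
    · exact c.centralizing_false hq hp ht hpq.symm hqt hpt hqr hpr htr hM hML hMn hMs hHL hH' hq2
        hp2 hxH hx hMx
  · push Not at hex
    have : Group.IsSolvable H := Coprime.isSolvable_of_le hHL c.sol
    have hne : H ≠ ⊥ := by
      rintro rfl
      obtain ⟨E, hE, hEs⟩ := hp2.exists_isSq
      obtain ⟨e, he, he1⟩ := hEs.exists_not_mem (c.prime p hp) (one_mem E)
      exact he1 (by rw [mem_bot.1 (hE he)]; exact one_mem _)
    obtain ⟨d, B, hd, hBH, hBne, hHB, hBel⟩ := exists_elementary_of_solvable hne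
    rcases eq_or_eq_of_isPGroup hd (PGroup.isPGroup_of_elementaryAbelian hBel) hBH hBne hH with
      h | h
    · subst h
      exact c.faithful_false hp hq ht hpq hpt hqt hpr hqr htr hM hML hMn hMs hHL hH hp2 hq2 hex
        hBel hBH hHB hBne
    · subst h
      exact c.faithful_false hq hp ht hpq.symm hqt hpt hqr hpr htr hM hML hMn hMs hHL hH' hq2 hp2
        (fun x hx hxo => hex x hx hxo.symm) hBel hBH hHB hBne

end Cfsg.Agent.Joined
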