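import Cfsg.Agent.Lib.Joined.Cyclic

/-!
# Two commuting normal subgroups of different prime orders

`pair_false`: a solvable `{p, q}`-group with squares for both primes cannot act jointly faithfully
on a commuting `r`-group and `s`-group without creating a forbidden triple.
-/

set_option autoImplicit false

namespace Cfsg.Agent.Joined

open Subgroup
open scoped commutatorElement

variable {G : Type*} [Group G] [Finite G]

theorem eq_bot_or_eq_bot {σ : Finset ℕ} (no3 : NoTriple σ G) {d r s : ℕ} (hd : d ∈ σ) (hr : r ∈ σ)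
    (hs : s ∈ σ) (hdr : d ≠ r) (hds : d ≠ s) (hrs : r ≠ s) (hr' : r.Prime) (hs' : s.Prime)
    {R S : Subgroup G} (hR : IsPGroup r R) (hS : IsPGroup s S)
    (hRS : ∀ x ∈ R, ∀ y ∈ S, x * y = y * x) {h : G} (ho : orderOf h = d) :
    R ⊓ centralizer {h} = ⊥ ∨ S ⊓ centralizer {h} = ⊥ := by
  by_contra hne
  push Not at hne
  obtain ⟨x, hx, hxo⟩ := exists_order_of_ne_bot hr' hR inf_le_left hne.1
  obtain ⟨y, hy, hyo⟩ := exists_order_of_ne_bot hs' hS inf_le_left hne.2
  exact no3 d hd r hr s hs hdr hrs hds h x y ho hxo hyo (mem_centralizer_singleton_iff.1 hx.2).symm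
    (hRS x hx.1 y hy.1) (mem_centralizer_singleton_iff.1 hy.2).symm

/-- Faithfulness on one of the two groups. -/
theorem pair_faithful {σ : Finset ℕ} (hσ : ∀ d ∈ σ, d.Prime) (no3 : NoTriple σ G) {p q r s : ℕ}
    (hp : p ∈ σ) (hq : q ∈ σ) (hr : r ∈ σ) (hs : s ∈ σ) (hpq : p ≠ q) (hpr : p ≠ r) (hps : p ≠ s)
    (hqr : q ≠ r) (hqs : q ≠ s) (hrs : r ≠ s) {R S L : Subgroup G} [Group.IsSolvable L]
    (hR : IsPGroup r R) (hS : IsPGroup s S) (hRne : R ≠ ⊥)
    (hRS : ∀ x ∈ R, ∀ y ∈ S, x * y = y * x) (hLR : L ≤ normalizer (R : Set G))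
    (hLS : L ≤ normalizer (S : Set G))
    (hf : L ⊓ centralizer (R : Set G) ⊓ centralizer (S : Set G) = ⊥)
    (hsp : HasSq p L) (hsq : HasSq q L)
    (hL : ∀ d : ℕ, d.Prime → d ∣ Nat.card L → d = p ∨ d = q) :
    L ⊓ centralizer (R : Set G) = ⊥ := by
  by_contra hne
  set K := L ⊓ centralizer (R : Set G)
  have : Group.IsSolvable K := Coprime.isSolvable_of_le inf_le_left inferInstance
  obtain ⟨d, B₀, hd, hB₀K, hB₀ne, hKB₀, hB₀⟩ := exists_elementary_of_solvable hne
  have hcne : coreIn d K ≠ ⊥ := fun h => hB₀ne (le_bot_iff.1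
    (h ▸ le_coreIn (PGroup.isPGroup_of_elementaryAbelian hB₀) hB₀K hKB₀))
  have hLK : L ≤ normalizer (K : Set G) := by
    intro g hg
    have h1 : g ∈ normalizer (L : Set G) := le_normalizer hg
    have h2 := AbelianCent.le_normalizer_centralizer' hLR hg
    refine mem_normalizer_iff.2 fun x => ?_
    show x ∈ L ⊓ centralizer (R : Set G) ↔ _ ∈ L ⊓ centralizer (R : Set G)
    rw [mem_inf, mem_inf, mem_normalizer_iff.1 h1 x, mem_normalizer_iff.1 h2 x]
  have : (Cfsg.pCore d K).Characteristic := PCore.pCore_characteristic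
  obtain ⟨B, hBc, hBne, hLB, hB⟩ := exists_elementary_normalized hd (isPGroup_coreIn d K) hcne
    (hLK.trans (Components.normalizer_le_normalizer_map_of_characteristic K (Cfsg.pCore d K)))
  have hBK : B ≤ K := hBc.trans (coreIn_le d K)
  have hBp := PGroup.isPGroup_of_elementaryAbelian hB
  have key : ∀ x y : ℕ, x ∈ σ → y ∈ σ → x ≠ y → x ≠ r → x ≠ s → y ≠ r → y ≠ s → d = x →
      HasSq y L → False := by
    intro x y hx hy hxy hxr hxs hyr hys hdx hsy
    subst hdx
    obtain ⟨E, hEL, hE⟩ := hsy.exists_isSq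
    obtain ⟨h, hh, hh1, hfix⟩ :=
      exists_fix (hσ r hr) (hσ y hy) hyr.symm hE hR (hEL.trans hLR) hRne
    have hho := hE.orderOf_eq (hσ y hy) hh hh1
    have hSh : S ⊓ centralizer {h} = ⊥ :=
      (eq_bot_or_eq_bot no3 hy hr hs hyr hys hrs (hσ r hr) (hσ s hs) hR hS hRS hho).resolve_left
        hfix
    have := hB.1
    have hBh := centralizes_abelian hd (hσ y hy) (hσ s hs) hxy.symm hys hxs hBp hS hho
      ((hBK.trans inf_le_left).trans hLS) (hLS (hEL hh)) (hLB (hEL hh)) hSh
      (le_bot_iff.1 (le_trans (inf_le_inf_right _ hBK) hf.le))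
    obtain ⟨b, hb, hbo⟩ := exists_order_of_ne_bot hd hBp le_rfl hBne
    obtain ⟨z, hz, hzo⟩ := exists_order_of_ne_bot (hσ r hr) hR inf_le_left hfix
    exact no3 d hx y hy r hr hxy hyr hxr b h z hbo hho hzo
      (mem_centralizer_singleton_iff.1 (hBh hb)) (mem_centralizer_singleton_iff.1 hz.2).symm
      (mem_centralizer_iff.1 (hBK hb).2 z hz.1).symm
  rcases eq_or_eq_of_isPGroup hd hBp (hBK.trans inf_le_left) hBne hL with h | h
  · exact key p q hp hq hpq hpr hps hqr hqs h hsq
  · exact key q p hq hp hpq.symm hqr hqs hpr hps h hsp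

/-- Two fixed-point-free involutions of a faithful group coincide. -/
theorem Cfg.eq_of_involutions {σ : Finset ℕ} {s : ℕ} {S L : Subgroup G} (c : Cfg σ s S L)
    {x u : G} (hx : x ∈ L) (hu : u ∈ L) (hxo : orderOf x = 2) (huo : orderOf u = 2)
    (hSx : S ⊓ centralizer {x} = ⊥) (hSu : S ⊓ centralizer {u} = ⊥) : x = u := by
  have inv : ∀ w : G, w ∈ L → orderOf w = 2 → S ⊓ centralizer {w} = ⊥ →
      ∀ v ∈ S, w * v * w⁻¹ = v⁻¹ := by
    intro w hw hwo hfix v hv
    have hww : w * w = 1 := by rw [← pow_two, ← hwo, pow_orderOf_eq_one]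
    have hwi : w⁻¹ = w := inv_eq_of_mul_eq_one_right hww
    let φ : S → S := fun v => ⟨(v : G)⁻¹ * (w * v * w⁻¹),
      S.mul_mem (S.inv_mem v.2) ((mem_normalizer_iff.1 (c.hLV hw) _).1 v.2)⟩
    have hφ : Function.Injective φ := by
      intro a b hab
      have e : (a : G)⁻¹ * (w * a * w⁻¹) = (b : G)⁻¹ * (w * b * w⁻¹) := congrArg Subtype.val hab
      have hmem : (b : G) * (a : G)⁻¹ ∈ S ⊓ centralizer {w} := by
        refine ⟨S.mul_mem b.2 (S.inv_mem a.2), mem_centralizer_singleton_iff.2 ?_⟩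
        calc (b : G) * (a : G)⁻¹ * w
            = b * ((a : G)⁻¹ * (w * a * w⁻¹)) * (w * (a : G)⁻¹) := by group
          _ = b * ((b : G)⁻¹ * (w * b * w⁻¹)) * (w * (a : G)⁻¹) := by rw [e]
          _ = w * ((b : G) * (a : G)⁻¹) := by group
      rw [hfix, mem_bot, mul_inv_eq_one] at hmem
      exact Subtype.ext hmem.symm
    obtain ⟨a, ha⟩ := (Finite.injective_iff_surjective.1 hφ) ⟨v, hv⟩
    have hv' : (a : G)⁻¹ * (w * a * w⁻¹) = v := congrArg Subtype.val ha
    calc w * v * w⁻¹ = w * ((a : G)⁻¹ * (w * a * w⁻¹)) * w⁻¹ := by rw [hv']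
      _ = (w * (a : G)⁻¹ * w) * a * (w⁻¹ * w⁻¹) := by group
      _ = (w * (a : G)⁻¹ * w⁻¹) * a := by rw [← mul_inv_rev, hww, inv_one, mul_one, hwi]
      _ = v⁻¹ := by rw [← hv']; group
  have hmem : x * u ∈ L ⊓ centralizer (S : Set G) := by
    refine ⟨mul_mem hx hu, mem_centralizer_iff.2 fun v hv => ?_⟩
    have h1 : x * u * v * (x * u)⁻¹ = v := by
      rw [show x * u * v * (x * u)⁻¹ = x * (u * v * u⁻¹) * x⁻¹ by group, inv u hu huo hSu v hv,
        inv x hx hxo hSx _ (inv_mem hv), inv_inv]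
    exact (mul_inv_eq_iff_eq_mul.1 h1).symm
  rw [c.faithful, mem_bot] at hmem
  have huu : u * u = 1 := by rw [← pow_two, ← huo, pow_orderOf_eq_one]
  rw [eq_inv_of_mul_eq_one_left hmem, inv_eq_of_mul_eq_one_right huu]

/-- **Two prime divisors in the Fitting subgroup: impossible.** -/
theorem pair_false {σ : Finset ℕ} (hσ : ∀ d ∈ σ, d.Prime) (no3 : NoTriple σ G) {p q r s : ℕ}
    (hp : p ∈ σ) (hq : q ∈ σ) (hr : r ∈ σ) (hs : s ∈ σ) (hpq : p ≠ q) (hpr : p ≠ r) (hps : p ≠ s)
    (hqr : q ≠ r) (hqs : q ≠ s) (hrs : r ≠ s) {R S L : Subgroup G} [Group.IsSolvable L]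
    (hR : IsPGroup r R) (hS : IsPGroup s S) (hRne : R ≠ ⊥) (hSne : S ≠ ⊥)
    (hRS : ∀ x ∈ R, ∀ y ∈ S, x * y = y * x) (hLR : L ≤ normalizer (R : Set G))
    (hLS : L ≤ normalizer (S : Set G))
    (hf : L ⊓ centralizer (R : Set G) ⊓ centralizer (S : Set G) = ⊥)
    (hsp : HasSq p L) (hsq : HasSq q L)
    (hL : ∀ d : ℕ, d.Prime → d ∣ Nat.card L → d = p ∨ d = q) : False := by
  have hfR := pair_faithful hσ no3 hp hq hr hs hpq hpr hps hqr hqs hrs hR hS hRne hRS hLR hLS hf
    hsp hsq hL
  have hfS := pair_faithful hσ no3 hp hq hs hr hpq hps hpr hqs hqr hrs.symm hS hR hSne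
    (fun x hx y hy => (hRS y hy x hx).symm) hLS hLR (by rwa [inf_right_comm]) hsp hsq hL
  have cR : Cfg σ r R L := ⟨hσ, no3, hr, hR, hLR, hfR, ‹_›⟩
  have cS : Cfg σ s S L := ⟨hσ, no3, hs, hS, hLS, hfS, ‹_›⟩
  have normalFpf : ∀ d y : ℕ, d ∈ σ → y ∈ σ → d ≠ y → d ≠ r → d ≠ s → y ≠ r → y ≠ s →
      HasSq y L → ∀ B ≤ L, L ≤ normalizer (B : Set G) → IsElementaryAbelian d B →
      ∀ a ∈ B, a ≠ 1 → R ⊓ centralizer {a} = ⊥ ∧ S ⊓ centralizer {a} = ⊥ := by
    intro d y hd hy hdy hdr hds hyr hys hsy B hBL hBn hB a ha ha1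
    have hy' := hσ y hy
    have := Fact.mk (hσ d hd)
    have hao : orderOf a = d := orderOf_eq_prime (hB.2 a ha) ha1
    obtain ⟨E, hEL, hE⟩ := hsy.exists_isSq
    have := hE.elem.1
    have hcen : ∀ h ∈ E, h ≠ 1 → R ⊓ centralizer {h} ≠ ⊥ → h ∈ centralizer {a} := by
      intro h hh hh1 hfix
      have hho := hE.orderOf_eq hy' hh hh1
      have hSh : S ⊓ centralizer {h} = ⊥ :=
        (eq_bot_or_eq_bot no3 hy hr hs hyr hys hrs (hσ r hr) (hσ s hs) hR hS hRS hho).resolve_left
          hfix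
      exact mem_centralizer_singleton_iff.2 (mem_centralizer_singleton_iff.1
        (cS.centralizes hd hy hdy hds hys hho (hEL hh) hB hBL (hBn (hEL hh)) hSh ha)).symm
    obtain ⟨h₁, hh₁, hh₁1, hf₁⟩ := cR.exists_fix hy hyr hE hEL
    obtain ⟨h₂, hh₂, hh₂₁, hf₂⟩ : ∃ h ∈ E, h ∉ zpowers h₁ ∧ R ⊓ centralizer {h} ≠ ⊥ := by
      by_contra h
      push Not at h
      have heq : R ⊓ centralizer {h₁} = R :=
        Coprime.eq_of_forall_centralizer_le (hE.not_cyclic hy') (hEL.trans hLR)
          (coprime_of_isPGroup hy' (hσ r hr) hyr hE.isPGroup hR) inf_le_left fun e he he1 => by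
        by_cases hee : e ∈ zpowers h₁
        · rw [centralizer_eq_of_mem hy' (hE.orderOf_eq hy' hh₁ hh₁1) hee he1]
        · rw [h e he hee]
          exact bot_le
      exact cR.not_le_centralizer (hEL hh₁) hh₁1 (heq.ge.trans inf_le_right)
    have hEa : E ≤ centralizer {a} := hE.le_of_two hy' hh₁ hh₂ hh₁1 hh₂₁ (hcen h₁ hh₁ hh₁1 hf₁)
      (hcen h₂ hh₂ (fun h => hh₂₁ (by rw [h]; exact one_mem _)) hf₂)
    exact ⟨cR.fpf_of_sq hd hy hdy hdr hyr hao hE hEL hEa,
      cS.fpf_of_sq hd hy hdy hds hys hao hE hEL hEa⟩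
  have hcase : ∀ d y : ℕ, d ∈ σ → y ∈ σ → d ≠ y → d ≠ r → d ≠ s → y ≠ r → y ≠ s → HasSq d L →
      HasSq y L → IsCyclic (coreIn d L) := by
    intro d y hd hy hdy hdr hds hyr hys hsd hsy
    have hd' := hσ d hd
    have := Fact.mk hd'
    by_contra hncyc
    have hne : coreIn d L ≠ ⊥ := fun h => hncyc (by rw [h]; infer_instance)
    obtain ⟨u, huT, hu, huc, huniq, hLu⟩ := core_data hd' hne fun B hBL hBn hB hs' => by
      obtain ⟨E, hEB, hE⟩ := hs'.exists_isSq
      obtain ⟨e, he, he1, hfix⟩ := cR.exists_fix hd hdr hE (hEB.trans hBL)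
      exact hfix (normalFpf d y hd hy hdy hdr hds hyr hys hsy B hBL hBn hB e (hEB he) he1).1
    have hu1 : u ≠ 1 := fun h => hd'.ne_one (by rw [← hu, h, orderOf_one])
    have huL : u ∈ L := coreIn_le d L huT
    obtain ⟨hRu, hSu⟩ := normalFpf d y hd hy hdy hdr hds hyr hys hsy (zpowers u)
      (zpowers_le.2 huL) hLu (PGroup.isElementaryAbelian_zpowers (hu ▸ pow_orderOf_eq_one u)) u
      (mem_zpowers u) hu1
    by_cases hd2 : d = 2
    · subst hd2
      obtain ⟨E, hEL, hE⟩ := hsd.exists_isSq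
      obtain ⟨x, hx, hxu⟩ : ∃ x ∈ E, x ∉ zpowers u := by
        by_contra h
        push Not at h
        obtain ⟨a, ha, ha1⟩ := hE.exists_not_mem hd' (one_mem E)
        obtain ⟨b, hb, hba⟩ := hE.exists_not_mem hd' ha
        refine hba ?_
        rw [zpowers_eq_of_mem hd' hu (h a ha) fun h' => ha1 (by rw [h']; exact one_mem _)]
        exact h b hb
      have hx1 : x ≠ 1 := fun h => hxu (by rw [h]; exact one_mem _)
      have hxo := hE.orderOf_eq hd' hx hx1
      refine hxu ?_
      rcases eq_bot_or_eq_bot no3 hd hr hs hdr hds hrs (hσ r hr) (hσ s hs) hR hS hRS hxo with h | h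
      · rw [cR.eq_of_involutions (hEL hx) huL hxo hu h hRu]
        exact mem_zpowers u
      · rw [cS.eq_of_involutions (hEL hx) huL hxo hu h hSu]
        exact mem_zpowers u
    · rcases hasSq_or_unique hd' (isPGroup_coreIn d L) with hs' | hun
      · obtain ⟨x, hx, hxu⟩ := exists_nearCentre hd' hd2 (isPGroup_coreIn d L) hs' huT hu huc huniq
        have hxL : x ∈ L := coreIn_le d L hx.1
        have hx1 : x ≠ 1 := fun h => hxu (by rw [h]; exact one_mem _)
        have hxo : orderOf x = d := orderOf_eq_prime hx.2.1 hx1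
        have hux : u * x = x * u := huc x hx.1
        have hA := isSq_sup hd' hu hxo hux hxu
        have hAL : zpowers u ⊔ zpowers x ≤ L := sup_le (zpowers_le.2 huL) (zpowers_le.2 hxL)
        have hfixx : ∀ {m : ℕ} {W : Subgroup G}, Cfg σ m W L → d ≠ m → W ⊓ centralizer {u} = ⊥ →
            W ⊓ centralizer {x} ≠ ⊥ := by
          intro m W cW hdm hWu
          obtain ⟨y, hy, hy1, hfix⟩ := cW.exists_fix hd hdm hA hAL
          have hyu : y ∉ zpowers u := fun h => hfix (by
            rw [centralizer_eq_of_mem hd' hu h hy1, hWu])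
          have hyo := hA.orderOf_eq hd' hy hy1
          have hxA : x ∈ zpowers u ⊔ zpowers y := hA.le_of_two hd' (mem_sup_left (mem_zpowers u))
            hy hu1 hyu (mem_sup_left (mem_zpowers u)) (mem_sup_right (mem_zpowers y))
            (mem_sup_right (mem_zpowers x))
          obtain ⟨i, j, hij⟩ := exists_zpow_mul (hA.comm (mem_sup_left (mem_zpowers u)) hy) hxA
          have hyj : y ^ j = x * u ^ (-i) := by
            rw [← ((show Commute u x from hux).zpow_left (-i)).eq, hij]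
            group
          have hyj1 : y ^ j ≠ 1 := by
            intro h
            refine hxu ?_
            rw [hij, h, mul_one]
            exact zpow_mem (mem_zpowers u) i
          obtain ⟨z, hzT, hz⟩ := exists_conj_mul hd' hu huc huniq hx hxu (-i)
          intro hbot
          obtain ⟨w, hw, hwo⟩ := exists_order_of_ne_bot (cW.prime m cW.mem) cW.hV inf_le_left hfix
          rw [← centralizer_eq_of_mem hd' hyo (zpow_mem (mem_zpowers y) j) hyj1, hyj, ← hz] at hw
          have hzi := inv_mem (coreIn_le d L hzT)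
          have h1 := smul_line (cW.hLV hzi) hw
          rw [show z⁻¹ * (z * x * z⁻¹) * (z⁻¹)⁻¹ = x by group, hbot, mem_bot] at h1
          exact (cW.prime m cW.mem).ne_one (by rw [← hwo,
            show w = 1 by calc w = z * (z⁻¹ * w * (z⁻¹)⁻¹) * z⁻¹ := by group
                            _ = 1 := by rw [h1, mul_one, mul_inv_cancel], orderOf_one])
        rcases eq_bot_or_eq_bot no3 hd hr hs hdr hds hrs (hσ r hr) (hσ s hs) hR hS hRS hxo with
          h | h
        · exact hfixx cR hdr hRu h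
        · exact hfixx cS hds hSu h
      · refine hncyc ?_
        suffices huq : ∀ H K : Subgroup (coreIn d L), Nat.card H = d → Nat.card K = d → H = K from
          (PGroup.cyclic_or_quaternion_of_unique (G := coreIn d L) (isPGroup_coreIn d L)
            huq).resolve_right fun h => hd2 h.1
        intro H K hH hK
        have hgen : ∀ H K : Subgroup (coreIn d L), Nat.card H = d → Nat.card K = d → H ≤ K := by
          intro H K hH hK a ha
          by_cases ha1 : a = 1
          · rw [ha1]; exact one_mem _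
          have hao : orderOf a = d := by
            rcases (Nat.dvd_prime hd').1 (hH ▸ H.orderOf_dvd_natCard ha) with h | h
            · exact absurd (orderOf_eq_one_iff.1 h) ha1
            · exact h
          obtain ⟨b, hb⟩ := exists_prime_orderOf_dvd_card' (G := K) d (dvd_of_eq hK.symm)
          rw [← orderOf_coe] at hb
          obtain ⟨n, hn⟩ := hun (b : coreIn d L) (b : coreIn d L).2 a a.2
            (by rw [orderOf_coe, hb]) (by rw [orderOf_coe, hao])
          have : a = (b : coreIn d L) ^ n := Subtype.ext (by simpa using hn.symm)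
          rw [this]
          exact zpow_mem b.2 n
        exact le_antisymm (hgen H K hH hK) (hgen K H hK hH)
  have hcyc : ∀ d : ℕ, d.Prime → IsCyclic (Cfsg.pCore d L) := by
    intro d hd
    have e := (Cfsg.pCore d L).equivMapOfInjective L.subtype L.subtype_injective
    suffices IsCyclic (coreIn d L) from
      have : IsCyclic ((Cfsg.pCore d L).map L.subtype) := this
      isCyclic_of_surjective e.symm e.symm.surjective
    by_cases hne : coreIn d L = ⊥
    · rw [hne]; infer_instance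
    rcases eq_or_eq_of_isPGroup hd (isPGroup_coreIn d L) (coreIn_le d L) hne hL with rfl | rfl
    · exact hcase d q hp hq hpq hpr hps hqr hqs hsp hsq
    · exact hcase d p hq hp hpq.symm hqr hqs hpr hps hsq hsp
  have top : ∀ m : ℕ, m.Prime → HasSq m L → p ≤ m → q ≤ m → False := by
    intro m hm hsm h1 h2
    refine not_forall_cyclic_pCore (X := L) hm (fun d hd h => ?_) ?_ hcyc
    · rcases hL d hd h with rfl | rfl <;> assumption
    · obtain ⟨E, hEL, hE⟩ := hsm.exists_isSq
      exact ⟨E.subgroupOf L, le_top, PGroup.isElementaryAbelian_comap hE.elem L.subtype_injective,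
        by rw [Nat.card_congr (subgroupOfEquivOfLe hEL).toEquiv, hE.card]⟩
  rcases le_total p q with h | h
  · exact top q (hσ q hq) hsq h le_rfl
  · exact top p (hσ p hp) hsp le_rfl h

end Cfsg.Agent.Joined
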