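import Cfsg.Agent.Lib.AbelianCent.Fpf
import Cfsg.Agent.Lib.Coprime.Generation
import Cfsg.Agent.Lib.Coprime.Basic
import Cfsg.Agent.Lib.PGroup.Basic
import Cfsg.Agent.Lib.PGroup.ElementaryAbelian
import Cfsg.Agent.Lib.Solvable.Hall
import Cfsg.Prelude.Def_Transfer

/-!
# Elements of prime order, squares of prime order and coprime actions

Helper facts for the "pairwise joined primes" criterion (S3814).

* `mem_zpowers_prime`, `mem_centralizer_zpowers_iff`, `commute_of_coprime_sub_one`;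
* `HasSq p H`: `H` contains an elementary abelian subgroup of order `p²`; `hasSq_or_unique`;
* `exists_fix`: an element of a square fixes a nontrivial element of a coprime group;
* `centralizes_of_moved`, `centralizes_abelian`: the Frobenius-kernel consequences;
* `exists_elementary_normalized`, `exists_hall_two`.
-/

set_option autoImplicit false

namespace Cfsg.Agent.Joined

open Subgroup

variable {G : Type*} [Group G]

theorem zpowers_eq_of_mem {p : ℕ} (hp : p.Prime) {a b : G} (ha : orderOf a = p)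
    (hb : b ∈ zpowers a) (hb1 : b ≠ 1) : zpowers b = zpowers a := by
  have := Fact.mk hp
  have : Finite (zpowers a) :=
    (finite_zpowers.2 (orderOf_pos_iff.1 (ha ▸ hp.pos))).to_subtype
  refine eq_of_le_of_card_ge (zpowers_le.2 hb) ?_
  rw [Nat.card_zpowers, Nat.card_zpowers, ha]
  have h : orderOf b ∣ p := ha ▸ (Nat.card_zpowers a ▸ Subgroup.orderOf_dvd_natCard _ hb)
  rcases (Nat.dvd_prime hp).1 h with h | h
  · exact absurd (orderOf_eq_one_iff.1 h) hb1
  · exact h.ge

theorem orderOf_of_mem {p : ℕ} (hp : p.Prime) {a b : G} (ha : orderOf a = p)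
    (hb : b ∈ zpowers a) (hb1 : b ≠ 1) : orderOf b = p := by
  rw [← Nat.card_zpowers, zpowers_eq_of_mem hp ha hb hb1, Nat.card_zpowers, ha]

theorem mem_centralizer_zpowers_iff {a x : G} :
    x ∈ centralizer (zpowers a : Set G) ↔ x * a = a * x := by
  refine ⟨fun h => (mem_centralizer_iff.1 h a (mem_zpowers a)).symm, fun h => ?_⟩
  refine mem_centralizer_iff.2 ?_
  rintro _ ⟨n, rfl⟩
  exact (Commute.zpow_left (Commute.symm h) n : _)

theorem centralizer_singleton_eq (a : G) :
    centralizer ({a} : Set G) = centralizer (zpowers a : Set G) := by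
  ext x
  rw [mem_centralizer_zpowers_iff, mem_centralizer_singleton_iff]

theorem centralizer_eq_of_mem {p : ℕ} (hp : p.Prime) {a b : G} (ha : orderOf a = p)
    (hb : b ∈ zpowers a) (hb1 : b ≠ 1) :
    centralizer ({b} : Set G) = centralizer ({a} : Set G) := by
  rw [centralizer_singleton_eq, centralizer_singleton_eq, zpowers_eq_of_mem hp ha hb hb1]

theorem commute_of_mem_zpowers {a b g : G} (h : g * a = a * g) (hb : b ∈ zpowers a) :
    g * b = b * g :=
  mem_centralizer_singleton_iff.1 (centralizer_le (Set.singleton_subset_iff.2 hb)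
    (mem_centralizer_zpowers_iff.2 h))

/-- An element of order prime to `p - 1` normalising a group of order `p` centralises it. -/
theorem commute_of_coprime_sub_one [Finite G] {p : ℕ} (hp : p.Prime) {a g : G}
    (ha : orderOf a = p) (hga : g * a * g⁻¹ ∈ zpowers a) (hg : (orderOf g).Coprime (p - 1)) :
    g * a = a * g := by
  have := Fact.mk hp
  obtain ⟨k, hk⟩ := hga
  simp only at hk
  have hiter : ∀ n : ℕ, g ^ n * a * (g ^ n)⁻¹ = a ^ (k ^ n : ℤ) := by
    intro n
    induction n with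
    | zero => simp
    | succ n ih =>
      rw [pow_succ' g, pow_succ k, zpow_mul, mul_inv_rev,
        show g * g ^ n * a * ((g ^ n)⁻¹ * g⁻¹) = g * (g ^ n * a * (g ^ n)⁻¹) * g⁻¹ by group, ih,
        ← zpow_mul, mul_comm _ k, zpow_mul, hk, conj_zpow]
  have h1 := hiter (orderOf g)
  rw [pow_orderOf_eq_one, inv_one, mul_one, one_mul] at h1
  have hk1 : ((k : ZMod p)) ^ orderOf g = 1 := by
    have h2 : a ^ (k ^ orderOf g - 1 : ℤ) = 1 := by rw [zpow_sub_one, ← h1, mul_inv_cancel]
    rw [← orderOf_dvd_iff_zpow_eq_one, ha] at h2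
    have := (ZMod.intCast_zmod_eq_zero_iff_dvd _ p).2 h2
    push_cast at this
    exact sub_eq_zero.1 this
  have hk0 : (k : ZMod p) ≠ 0 := by
    intro h0
    rw [h0, zero_pow (orderOf_pos g).ne'] at hk1
    exact zero_ne_one hk1
  have hd : orderOf (k : ZMod p) = 1 :=
    Nat.eq_one_of_dvd_coprimes hg (orderOf_dvd_of_pow_eq_one hk1)
      (ZMod.orderOf_dvd_card_sub_one hk0)
  have hkp : a ^ k = a := by
    have h3 : ((k - 1 : ℤ) : ZMod p) = 0 := by
      push_cast
      rw [orderOf_eq_one_iff.1 hd, sub_self]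
    rw [ZMod.intCast_zmod_eq_zero_iff_dvd, ← ha, orderOf_dvd_iff_zpow_eq_one, zpow_sub_one,
      mul_inv_eq_one] at h3
    exact h3
  rw [hkp] at hk
  exact mul_inv_eq_iff_eq_mul.1 hk.symm

/-- A moved group of order `p` forces `q ∣ p - 1` for a normalising element of order `q`. -/
theorem dvd_sub_one_of_moved [Finite G] {p q : ℕ} (hp : p.Prime) (hq : q.Prime) {a g : G}
    (ha : orderOf a = p) (hg : orderOf g = q) (hga : g * a * g⁻¹ ∈ zpowers a)
    (hne : g * a ≠ a * g) : q ∣ p - 1 := by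
  by_contra h
  exact hne (commute_of_coprime_sub_one hp ha hga (hg ▸ (hq.coprime_iff_not_dvd.2 h)))

theorem conj_mem_zpowers_of_le_normalizer {H : Subgroup G} {a g : G}
    (hH : H ≤ normalizer (zpowers a : Set G)) (hg : g ∈ H) : g * a * g⁻¹ ∈ zpowers a :=
  (mem_normalizer_iff.1 (hH hg) a).1 (mem_zpowers a)

theorem orderOf_conj' (g x : G) : orderOf (g * x * g⁻¹) = orderOf x :=
  (MulAut.conj g).orderOf_eq x

/-- `H` contains an elementary abelian subgroup of order `p²`. -/
def HasSq (p : ℕ) (H : Subgroup G) : Prop :=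
  ∃ E : Subgroup G, E ≤ H ∧ IsElementaryAbelian p E ∧ Nat.card E = p ^ 2

/-- `E` is elementary abelian of order `p²`. -/
structure IsSq (p : ℕ) (E : Subgroup G) : Prop where
  elem : IsElementaryAbelian p E
  card : Nat.card E = p ^ 2

variable {p q : ℕ}

theorem HasSq.mono {H K : Subgroup G} (h : HasSq p H) (hle : H ≤ K) : HasSq p K := by
  obtain ⟨E, h1, h2⟩ := h
  exact ⟨E, h1.trans hle, h2⟩

theorem HasSq.exists_isSq {H : Subgroup G} (h : HasSq p H) : ∃ E ≤ H, IsSq p E := by
  obtain ⟨E, h1, h2, h3⟩ := h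
  exact ⟨E, h1, h2, h3⟩

theorem IsSq.hasSq {E H : Subgroup G} (h : IsSq p E) (hle : E ≤ H) : HasSq p H :=
  ⟨E, hle, h.elem, h.card⟩

theorem IsSq.comm {E : Subgroup G} (h : IsSq p E) {a b : G} (ha : a ∈ E) (hb : b ∈ E) :
    a * b = b * a :=
  PGroup.mul_comm_of_elementaryAbelian h.elem ha hb

theorem IsSq.orderOf_eq {E : Subgroup G} (h : IsSq p E) (hp : p.Prime) {a : G} (ha : a ∈ E)
    (ha1 : a ≠ 1) : orderOf a = p := by
  have := Fact.mk hp
  exact orderOf_eq_prime (h.elem.2 a ha) ha1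

theorem IsSq.isPGroup {E : Subgroup G} (h : IsSq p E) : IsPGroup p E :=
  PGroup.isPGroup_of_elementaryAbelian h.elem

theorem IsSq.not_cyclic {E : Subgroup G} (h : IsSq p E) (hp : p.Prime) : ¬ IsCyclic E := by
  intro hc
  obtain ⟨g, hg⟩ := hc.exists_ofOrder_eq_natCard
  have h1 : orderOf g ∣ p :=
    orderOf_dvd_of_pow_eq_one (Subtype.ext (by simpa using h.elem.2 g g.2))
  rw [hg, h.card, sq] at h1
  have := Nat.le_of_dvd hp.pos h1
  nlinarith [hp.two_le]

theorem IsSq.exists_not_mem [Finite G] {E : Subgroup G} (h : IsSq p E) (hp : p.Prime) {a : G}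
    (ha : a ∈ E) : ∃ b ∈ E, b ∉ zpowers a := by
  by_contra hne
  push Not at hne
  have h1 : Nat.card E ≤ Nat.card (zpowers a) := card_le_of_le hne
  rw [h.card, Nat.card_zpowers] at h1
  have h2 : orderOf a ≤ p := Nat.le_of_dvd hp.pos (orderOf_dvd_of_pow_eq_one (h.elem.2 a ha))
  nlinarith [hp.two_le]

/-- Two independent elements generate a square. -/
theorem IsSq.le_of_two [Finite G] {E K : Subgroup G} (h : IsSq p E) (hp : p.Prime) {a b : G}
    (ha : a ∈ E) (hb : b ∈ E) (ha1 : a ≠ 1) (hab : b ∉ zpowers a) (haK : a ∈ K) (hbK : b ∈ K) :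
    E ≤ K := by
  have hle : zpowers a ⊔ zpowers b ≤ E := sup_le (zpowers_le.2 ha) (zpowers_le.2 hb)
  have hb1 : b ≠ 1 := fun h' => hab (h' ▸ one_mem _)
  have heq : zpowers a ⊔ zpowers b = E := by
    refine eq_of_le_of_card_ge hle ?_
    rw [Coprime.card_sup_of_le_normalizer, h.card, Nat.card_zpowers, Nat.card_zpowers,
      h.orderOf_eq hp ha ha1, h.orderOf_eq hp hb hb1, sq]
    · exact (zpowers_le.2 (mem_centralizer_zpowers_iff.2 (h.comm ha hb))).trans
        (centralizer_le_normalizer _)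
    · refine eq_bot_iff.2 fun x hx => mem_bot.2 ?_
      by_contra hx1
      refine hab ?_
      rw [← zpowers_eq_of_mem hp (h.orderOf_eq hp ha ha1) hx.1 hx1,
        zpowers_eq_of_mem hp (h.orderOf_eq hp hb hb1) hx.2 hx1]
      exact mem_zpowers b
  exact heq ▸ sup_le (zpowers_le.2 haK) (zpowers_le.2 hbK)

/-- Two commuting independent elements of order `p` span a square. -/
theorem isSq_sup [Finite G] (hp : p.Prime) {x y : G} (hx : orderOf x = p) (hy : orderOf y = p)
    (hc : x * y = y * x) (hyx : y ∉ zpowers x) : IsSq p (zpowers x ⊔ zpowers y) := by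
  refine ⟨PGroup.isElementaryAbelian_sup
    (PGroup.isElementaryAbelian_zpowers (hx ▸ pow_orderOf_eq_one x))
    (PGroup.isElementaryAbelian_zpowers (hy ▸ pow_orderOf_eq_one y)) ?_, ?_⟩
  · intro a ha b hb
    exact commute_of_mem_zpowers (commute_of_mem_zpowers hc.symm ha).symm hb
  · rw [Coprime.card_sup_of_le_normalizer, Nat.card_zpowers, Nat.card_zpowers, hx, hy, sq]
    · exact (zpowers_le.2 (mem_centralizer_zpowers_iff.2 hc)).trans (centralizer_le_normalizer _)
    · refine eq_bot_iff.2 fun z hz => mem_bot.2 ?_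
      by_contra hz1
      refine hyx ?_
      rw [← zpowers_eq_of_mem hp hx hz.1 hz1, zpowers_eq_of_mem hp hy hz.2 hz1]
      exact mem_zpowers y

/-- A `p`-group either contains a square or has a single subgroup of order `p`. -/
theorem hasSq_or_unique [Finite G] (hp : p.Prime) {P : Subgroup G} (hP : IsPGroup p P) :
    HasSq p P ∨ ∀ x ∈ P, ∀ y ∈ P, orderOf x = p → orderOf y = p → y ∈ zpowers x := by
  have := Fact.mk hp
  by_contra h
  push Not at h
  obtain ⟨hns, x, hx, y, hy, hxo, hyo, hyx⟩ := h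
  have hne : (⊤ : Subgroup P) ≠ ⊥ := by
    intro h'
    have : (⟨x, hx⟩ : P) ∈ (⊥ : Subgroup P) := h' ▸ mem_top _
    rw [mem_bot, Subtype.ext_iff] at this
    exact hp.one_lt.ne' (by rw [← hxo]; simpa using this)
  obtain ⟨z, -, hz, hzo⟩ := PGroup.exists_orderOf_eq_mem_center hP ⊤ hne
  have hzo' : orderOf (z : G) = p := by rwa [orderOf_coe]
  have key : ∀ w ∈ P, orderOf w = p → w ∈ zpowers (z : G) := by
    intro w hw hwo
    by_contra hwz
    refine hns ((isSq_sup hp hzo' hwo ?_ hwz).hasSq (sup_le (zpowers_le.2 z.2) (zpowers_le.2 hw)))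
    exact congrArg Subtype.val ((mem_center_iff.1 hz ⟨w, hw⟩).symm)
  refine hyx ?_
  rw [zpowers_eq_of_mem hp hzo' (key x hx hxo) (by rintro rfl; simp at hxo; exact hp.ne_one hxo.symm)]
  exact key y hy hyo

theorem exists_order_of_ne_bot [Finite G] (hp : p.Prime) {P W : Subgroup G} (hP : IsPGroup p P)
    (hW : W ≤ P) (hne : W ≠ ⊥) : ∃ z ∈ W, orderOf z = p := by
  have := Fact.mk hp
  obtain ⟨n, hn⟩ := (hP.to_le hW).exists_card_eq
  have hdvd : p ∣ Nat.card W := by
    rw [hn]
    exact dvd_pow_self p fun h0 => hne (Subgroup.card_eq_one.1 (by rw [hn, h0, pow_zero]))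
  obtain ⟨z, hz⟩ := exists_prime_orderOf_dvd_card' p hdvd
  exact ⟨z, z.2, by rwa [orderOf_coe]⟩

theorem isPGroup_zpowers {x : G} (hp : p.Prime) (hx : orderOf x = p) :
    IsPGroup p (zpowers x) := by
  have := Fact.mk hp
  exact IsPGroup.of_card (n := 1) (by rw [Nat.card_zpowers, hx, pow_one])

theorem coprime_of_isPGroup [Finite G] (hp : p.Prime) (hq : q.Prime) (hpq : p ≠ q)
    {A B : Subgroup G} (hA : IsPGroup p A) (hB : IsPGroup q B) :
    (Nat.card A).Coprime (Nat.card B) :=
  have := Fact.mk hp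
  have := Fact.mk hq
  IsPGroup.coprime_card_of_ne p q hpq A B hA hB

/-- An element of a square fixes a nontrivial element of a coprime group it acts on. -/
theorem exists_fix [Finite G] (hp : p.Prime) (hq : q.Prime) (hpq : p ≠ q) {E K : Subgroup G}
    (hE : IsSq q E) (hK : IsPGroup p K) (hEK : E ≤ normalizer (K : Set G)) (hne : K ≠ ⊥) :
    ∃ e ∈ E, e ≠ 1 ∧ K ⊓ centralizer {e} ≠ ⊥ := by
  by_contra h
  push Not at h
  have := hE.elem.1
  exact hne (Coprime.eq_of_forall_centralizer_le (hE.not_cyclic hq) hEK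
    (coprime_of_isPGroup hq hp (Ne.symm hpq) hE.isPGroup hK) bot_le
    fun e he he1 => (h e he he1).le).symm

theorem le_normalizer_inf_centralizer {A K : Subgroup G} {x : G}
    (hA : A ≤ normalizer (K : Set G)) (hx : A ≤ centralizer {x}) :
    A ≤ normalizer ((K ⊓ centralizer {x} : Subgroup G) : Set G) := by
  intro a ha
  have h1 : a ∈ normalizer ((centralizer {x} : Subgroup G) : Set G) := le_normalizer (hx ha)
  refine mem_normalizer_iff.2 fun z => ?_
  rw [mem_inf, mem_inf, mem_normalizer_iff.1 (hA ha) z, mem_normalizer_iff.1 h1 z]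

/-- If an element `g` of prime order moves every nontrivial element of `U` and of `W`, then `U`
centralises `W`. -/
theorem centralizes_of_moved [Finite G] {r : ℕ} (hp : p.Prime) (hq : q.Prime) (hr : r.Prime)
    (hqp : q ≠ p) (hqr : q ≠ r) (hpr : p ≠ r) {U W : Subgroup G} (hU : IsPGroup p U)
    (hW : IsPGroup r W) {g : G} (hg : orderOf g = q) (hUW : U ≤ normalizer (W : Set G))
    (hgW : g ∈ normalizer (W : Set G)) (hgU : g ∈ normalizer (U : Set G))
    (hUg : U ⊓ centralizer {g} = ⊥) (hWg : W ⊓ centralizer {g} = ⊥) :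
    U ≤ centralizer (W : Set G) := by
  have := Fact.mk hr
  have hz := isPGroup_zpowers hq hg
  refine AbelianCent.le_centralizer_of_fpf_pgroup hW hUW (zpowers_le.2 hgW) (zpowers_le.2 hgU)
    (coprime_of_isPGroup hp hr hpr hU hW) (Group.isSolvable_of_comm fun a b => mul_comm' a b)
    (coprime_of_isPGroup hq hp hqp hz hU) (coprime_of_isPGroup hq hr hqr hz hW) ?_ ?_
  · intro l hl hl1 u hu hlu
    have : u ∈ U ⊓ centralizer {g} := by
      rw [← centralizer_eq_of_mem hq hg hl hl1]
      exact ⟨hu, mem_centralizer_singleton_iff.2 hlu.symm⟩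
    rwa [hUg, mem_bot] at this
  · rw [← centralizer_singleton_eq, hWg]

/-- An element without fixed points on `W` centralises every abelian coprime group it normalises
that acts faithfully on `W`. -/
theorem centralizes_abelian [Finite G] {r : ℕ} (hp : p.Prime) (hq : q.Prime) (hr : r.Prime)
    (hqp : q ≠ p) (hqr : q ≠ r) (hpr : p ≠ r) {B W : Subgroup G} (hB : IsPGroup p B)
    [IsMulCommutative B] (hW : IsPGroup r W) {g : G} (hg : orderOf g = q)
    (hBW : B ≤ normalizer (W : Set G)) (hgW : g ∈ normalizer (W : Set G))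
    (hgB : g ∈ normalizer (B : Set G)) (hWg : W ⊓ centralizer {g} = ⊥)
    (hf : B ⊓ centralizer (W : Set G) = ⊥) : B ≤ centralizer {g} := by
  have hn : zpowers g ≤ normalizer (B : Set G) := zpowers_le.2 hgB
  set U := ⁅B, zpowers g⁆ with hUdef
  have hUB : U ≤ B := Coprime.commutator_le_left_of_le_normalizer hn
  have hcop := coprime_of_isPGroup hq hp hqp (isPGroup_zpowers hq hg) hB
  have hgUn : g ∈ normalizer (U : Set G) :=
    AbelianCent.le_normalizer_commutator' hn le_normalizer (mem_zpowers g)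
  have hUg : U ⊓ centralizer {g} = ⊥ := by
    refine le_bot_iff.1 ?_
    rw [← Coprime.inf_centralizer_inf_commutator_eq_bot hn hcop, centralizer_singleton_eq]
    exact fun x hx => ⟨⟨hUB hx.1, hx.2⟩, hx.1⟩
  have h1 := centralizes_of_moved hp hq hr hqp hqr hpr (hB.to_le hUB) hW hg
    (hUB.trans hBW) hgW hgUn hUg hWg
  have h2 : U = ⊥ := le_bot_iff.1 (hf ▸ le_inf hUB h1)
  rw [centralizer_singleton_eq]
  exact le_centralizer_iff.1 (Coprime.le_centralizer_iff_commutator_eq_bot.2 h2)

/-- A nontrivial normalised `p`-group contains a normalised elementary abelian one. -/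
theorem exists_elementary_normalized [Finite G] (hp : p.Prime) {H M : Subgroup G}
    (hM : IsPGroup p M) (hne : M ≠ ⊥) (hHM : H ≤ normalizer (M : Set G)) :
    ∃ B : Subgroup G, B ≤ M ∧ B ≠ ⊥ ∧ H ≤ normalizer (B : Set G) ∧ IsElementaryAbelian p B := by
  have := Fact.mk hp
  let B : Subgroup G :=
    { carrier := {z | z ∈ M ∧ z ^ p = 1 ∧ ∀ m ∈ M, z * m = m * z}
      one_mem' := ⟨one_mem _, one_pow _, fun m _ => by rw [one_mul, mul_one]⟩
      mul_mem' := fun {a b} ha hb => ⟨mul_mem ha.1 hb.1,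
        by rw [(show Commute a b from ha.2.2 b hb.1).mul_pow, ha.2.1, hb.2.1, one_mul],
        fun m hm => (Commute.mul_left (ha.2.2 m hm) (hb.2.2 m hm) : _)⟩
      inv_mem' := fun {a} ha => ⟨inv_mem ha.1, by rw [inv_pow, ha.2.1, inv_one],
        fun m hm => (Commute.inv_left (ha.2.2 m hm) : _)⟩ }
  have hBmem : ∀ z, z ∈ B ↔ z ∈ M ∧ z ^ p = 1 ∧ ∀ m ∈ M, z * m = m * z := fun z => Iff.rfl
  refine ⟨B, fun z hz => hz.1, ?_, fun g hg => ?_,
    PGroup.isElementaryAbelian_of_forall (fun a ha b hb => ha.2.2 b hb.1) fun a ha => ha.2.1⟩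
  · have hne' : (⊤ : Subgroup M) ≠ ⊥ := by
      intro h
      apply hne
      rw [← range_subtype M, MonoidHom.range_eq_map, h, Subgroup.map_bot]
    obtain ⟨z, -, hz, hzo⟩ := PGroup.exists_orderOf_eq_mem_center hM ⊤ hne'
    intro hbot
    have hmem : (z : G) ∈ B := ⟨z.2, by rw [← hzo, ← orderOf_coe, pow_orderOf_eq_one],
      fun m hm => congrArg Subtype.val ((mem_center_iff.1 hz ⟨m, hm⟩).symm)⟩
    rw [hbot, mem_bot] at hmem
    rw [← orderOf_coe, hmem, orderOf_one] at hzo
    exact hp.ne_one hzo.symm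
  · have key : ∀ k ∈ normalizer (M : Set G), ∀ z ∈ B, k * z * k⁻¹ ∈ B := by
      intro k hk z hz
      refine ⟨(mem_normalizer_iff.1 hk z).1 hz.1, by rw [conj_pow, hz.2.1, mul_one, mul_inv_cancel],
        fun m hm => ?_⟩
      have hm' : k⁻¹ * m * k ∈ M := (mem_normalizer_iff''.1 hk m).1 hm
      calc k * z * k⁻¹ * m = k * (z * (k⁻¹ * m * k)) * k⁻¹ := by group
        _ = k * ((k⁻¹ * m * k) * z) * k⁻¹ := by rw [hz.2.2 _ hm']
        _ = m * (k * z * k⁻¹) := by group
    refine mem_normalizer_iff.2 fun z => ⟨key g (hHM hg) z, fun h => ?_⟩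
    have := key g⁻¹ (inv_mem (hHM hg)) _ h
    rwa [inv_inv, show g⁻¹ * (g * z * g⁻¹) * g = z by group] at this

/-- A nontrivial solvable group has a normalised elementary abelian subgroup. -/
theorem exists_elementary_of_solvable [Finite G] {H : Subgroup G} [Group.IsSolvable H]
    (hne : H ≠ ⊥) : ∃ (d : ℕ) (B : Subgroup G), d.Prime ∧ B ≤ H ∧ B ≠ ⊥ ∧
      H ≤ normalizer (B : Set G) ∧ IsElementaryAbelian d B := by
  have : Nontrivial H := (Subgroup.nontrivial_iff_ne_bot H).2 hne
  obtain ⟨d, M, hd, hMn, hM, hMd⟩ := Coprime.exists_normal_isPGroup (G := H)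
  have hn : H ≤ normalizer ((M.map H.subtype : Subgroup G) : Set G) := by
    have h := le_normalizer_map H.subtype (H := M)
    rw [normalizer_eq_top (H := M)] at h
    rwa [← MonoidHom.range_eq_map, range_subtype] at h
  obtain ⟨B, hB, hB1, hB2, hB3⟩ := exists_elementary_normalized (H := H) hd
    (hMd.map H.subtype) (fun h => hM ((map_eq_bot_iff_of_injective _ H.subtype_injective).1 h)) hn
  exact ⟨d, B, hd, hB.trans (map_subtype_le M), hB1, hB2, hB3⟩

/-- Hall `{p, q}`-subgroups of a solvable subgroup. -/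
theorem exists_hall_two [Finite G] (hp : p.Prime) (hq : q.Prime) (hpq : p ≠ q) (L : Subgroup G)
    [Group.IsSolvable L] : ∃ H ≤ L, (∀ d : ℕ, d.Prime → d ∣ Nat.card H → d = p ∨ d = q) ∧
      ∀ K ≤ L, (∀ d : ℕ, d.Prime → d ∣ Nat.card K → d = p ∨ d = q) →
        ∃ x ∈ L, ∀ k ∈ K, x * k * x⁻¹ ∈ H := by
  set N := Nat.card L with hN
  have hN0 : N ≠ 0 := Nat.card_pos.ne'
  set m := p ^ N.factorization p * q ^ N.factorization q with hm
  have hpd : p ^ N.factorization p ∣ N := Nat.ordProj_dvd N p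
  have hqd : q ^ N.factorization q ∣ N := Nat.ordProj_dvd N q
  have hmd : m ∣ N :=
    (((Nat.coprime_primes hp hq).2 hpq).pow _ _).mul_dvd_of_dvd_of_dvd hpd hqd
  obtain ⟨n, hn⟩ := hmd
  have hmp : ∀ d : ℕ, d.Prime → d ∣ m → d = p ∨ d = q := fun d hd h => by
    rcases hd.dvd_mul.1 h with h | h
    · exact Or.inl ((Nat.prime_dvd_prime_iff_eq hd hp).1 (hd.dvd_of_dvd_pow h))
    · exact Or.inr ((Nat.prime_dvd_prime_iff_eq hd hq).1 (hd.dvd_of_dvd_pow h))
  have hnn : ∀ d : ℕ, d.Prime → d ∣ n → d ≠ p ∧ d ≠ q := by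
    refine fun d hd hdn => ⟨?_, ?_⟩
    · rintro rfl
      refine Nat.pow_succ_factorization_not_dvd hN0 hd ?_
      have h2 := mul_dvd_mul (dvd_mul_right (d ^ N.factorization d) (q ^ N.factorization q)) hdn
      rwa [← hm, ← hn, ← pow_succ] at h2
    · rintro rfl
      refine Nat.pow_succ_factorization_not_dvd hN0 hd ?_
      have h2 := mul_dvd_mul (dvd_mul_left (d ^ N.factorization d) (p ^ N.factorization p)) hdn
      rwa [← hm, ← hn, ← pow_succ] at h2
  have hmn : m.Coprime n := Nat.coprime_of_dvd fun d hd h1 h2 => by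
    rcases hmp d hd h1 with rfl | rfl
    · exact (hnn _ hd h2).1 rfl
    · exact (hnn _ hd h2).2 rfl
  obtain ⟨H, hH⟩ := Solvable.exists_hall (G := L) hn hmn
  refine ⟨H.map L.subtype, map_subtype_le H, fun d hd h => hmp d hd ?_, fun K hKL hK => ?_⟩
  · rwa [card_map_of_injective L.subtype_injective, hH] at h
  · have hKc : (Nat.card (K.subgroupOf L)).Coprime n :=
      Nat.coprime_of_dvd fun d hd h1 h2 => by
        rw [Nat.card_congr (subgroupOfEquivOfLe hKL).toEquiv] at h1
        rcases hK d hd h1 with rfl | rfl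
        · exact (hnn _ hd h2).1 rfl
        · exact (hnn _ hd h2).2 rfl
    obtain ⟨g, hg⟩ := Solvable.exists_le_conj_hall hn hmn hH hKc
    refine ⟨(g⁻¹ : L), (g⁻¹).2, fun k hk => ?_⟩
    have h1 := Coprime.mem_conj_smul_iff.1 (hg (show (⟨k, hKL hk⟩ : L) ∈ K.subgroupOf L from hk))
    exact ⟨_, h1, by simp⟩

end Cfsg.Agent.Joined
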